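import Mathlib
import Cfsg.Prelude.Def_Spor_Fi22
import Cfsg.Agent.H93.CosetCox
import Cfsg.Agent.H93.CosetFast

/-!
A checked coset table (generated data).
-/

set_option autoImplicit false
set_option maxRecDepth 100000
set_option linter.all false
set_option Elab.async false

namespace H93
namespace Fi22LC

open Coset

noncomputable section

noncomputable def tT0 : ℕ := 0x0

noncomputable def tT1 : ℕ := 0x0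

noncomputable def tT2 : ℕ := 0x0

noncomputable def tT3 : ℕ := 0x0

noncomputable def tT4 : ℕ := 0x0

noncomputable def tT5 : ℕ := 0x0

noncomputable def tT6 : ℕ := 0x0

noncomputable def tT7 : ℕ := 0x0

noncomputable def tT8 : ℕ := 0x0

noncomputable def tTsel (g : ℕ) : ℕ := bif Nat.beq g 0 then tT0 else bif Nat.beq g 1 then tT1 else bif Nat.beq g 2 then tT2 else bif Nat.beq g 3 then tT3 else bif Nat.beq g 4 then tT4 else bif Nat.beq g 5 then tT5 else bif Nat.beq g 6 then tT6 else bif Nat.beq g 7 then tT7 else tT8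

noncomputable def tT (g c : ℕ) : ℕ := Nat.land (Nat.shiftRight (tTsel g) (16 * c)) 65535

noncomputable def tM0 : ℕ := 0x5

noncomputable def tM1 : ℕ := 0x3

noncomputable def tM2 : ℕ := 0x2

noncomputable def tM3 : ℕ := 0x1

noncomputable def tM4 : ℕ := 0x7

noncomputable def tM5 : ℕ := 0x6

noncomputable def tM6 : ℕ := 0x9

noncomputable def tM7 : ℕ := 0x4

noncomputable def tM8 : ℕ := 0x8

noncomputable def tMsel (g : ℕ) : ℕ := bif Nat.beq g 0 then tM0 else bif Nat.beq g 1 then tM1 else bif Nat.beq g 2 then tM2 else bif Nat.beq g 3 then tM3 else bif Nat.beq g 4 then tM4 else bif Nat.beq g 5 then tM5 else bif Nat.beq g 6 then tM6 else bif Nat.beq g 7 then tM7 else tM8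

noncomputable def tM (g c : ℕ) : ℕ := Nat.land (Nat.shiftRight (tMsel g) (8 * c)) 255

noncomputable def tJ0 : ℕ := 0x402

noncomputable def tJ1 : ℕ := 0x202

noncomputable def tJ2 : ℕ := 0x102

noncomputable def tJ3 : ℕ := 0x2

noncomputable def tJ4 : ℕ := 0x602

noncomputable def tJ5 : ℕ := 0x502

noncomputable def tJ6 : ℕ := 0x702

noncomputable def tJ7 : ℕ := 0x302

noncomputable def tJ8 : ℕ := 0x464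

noncomputable def tJsel (g : ℕ) : ℕ := bif Nat.beq g 0 then tJ0 else bif Nat.beq g 1 then tJ1 else bif Nat.beq g 2 then tJ2 else bif Nat.beq g 3 then tJ3 else bif Nat.beq g 4 then tJ4 else bif Nat.beq g 5 then tJ5 else bif Nat.beq g 6 then tJ6 else bif Nat.beq g 7 then tJ7 else tJ8

noncomputable def tJ (g c : ℕ) : ℕ := Nat.land (Nat.shiftRight (tJsel g) (16 * c)) 65535

noncomputable def tPA0 : ℕ := 0x0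
noncomputable def tPA (c : ℕ) : ℕ := Nat.land (Nat.shiftRight tPA0 (8 * c)) 255

def patch0 : Patch := ([(0,0),(0,1),(0,2),(0,3),(0,4),(0,5),(0,7),(0,8),(3,0),(4,0),(5,0),(6,0),(7,0),(8,0),(4,1),(5,1),(6,1),(7,1),(8,1),(5,2),(6,2),(7,2),(8,2),(6,3),(8,3),(7,4),(8,4),(8,5),(2,0),(29,1),(30,0),(4,2),(32,3),(33,2),(5,3),(35,4),(36,3),(7,3),(38,7),(39,3),(6,4),(41,5),(42,4),(8,7),(11,5),(45,1),(46,8),(47,3),(48,4),(49,7),(44,3),(51,5),(52,4),(53,3),(10,1),(11,1),(12,1),(13,1),(14,1),(11,2),(12,2),(13,2),(12,3),(14,3),(13,4),(14,4),(13,5),(14,5),(9,1),(10,2),(70,3),(71,2),(11,3),(73,4),(74,3),(13,3),(76,7),(77,3),(12,4),(79,5),(43,1),(81,8),(82,3),(83,4),(84,7),(16,0),(19,0),(17,3),(19,3),(18,4),(19,4),(19,5),(18,6),(16,3),(94,4),(95,3),(18,3),(97,7),(98,3),(17,4),(100,5),(101,4),(86,5),(103,1),(93,5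),(105,4),(106,3),(107,2),(108,1),(109,7),(110,6),(111,5),(112,4),(113,3),(114,2),(115,1),(116,7),(117,6),(118,5),(119,4),(120,3),(121,2),(122,1),(123,7),(124,6),(125,5),(126,4),(127,3),(128,2),(129,1),(130,7),(131,6),(132,5),(133,4),(134,3),(135,2),(136,1),(137,7),(138,6),(139,5),(140,4),(141,3),(142,2),(143,1),(144,7),(145,6),(146,5),(147,4),(148,3),(149,2),(150,1),(151,7),(152,6),(153,5),(154,4),(155,3),(156,2),(157,1),(158,7),(159,6),(160,5),(22,4),(23,5),(20,3),(49,3),(21,4),(166,5),(167,4),(60,5),(169,1),(170,8),(171,3),(40,2),(25,4),(25,5),(24,4),(176,5),(177,4),(75,5),(179,1),(180,8),(181,3),(182,4),(183,7),(43,3),(27,3),(27,5),(86,1),(26,3),(189,7),(190,3),(27,7),(57,8),(193,3),(194,4),(195,7),(192,3),(28,4),(41,3),(28,7),(80,1),(200,3),(202,5),(38,2),(204,3),(189,4),(206,3),(65,5),(208,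1),(209,8),(210,3),(186,4),(66,5),(213,1),(214,8),(200,4),(216,3),(72,1),(61,1),(62,1),(62,5),(60,3),(222,4),(223,3),(168,1),(225,8),(226,3),(75,1),(63,1),(78,1),(78,2),(78,4),(64,5),(64,7),(178,1),(235,8),(236,3),(237,4),(238,7),(234,3),(240,5),(241,4),(242,3),(243,1),(244,2),(245,3),(246,8),(247,7),(248,3),(249,5),(250,4),(251,3),(252,1),(253,2),(254,3),(255,8),(256,7),(257,3),(258,5),(259,4),(260,3),(261,1),(262,2),(263,3),(264,8),(265,7),(266,3),(267,5),(268,4),(269,3),(270,1),(271,2),(272,3),(273,8),(274,7),(275,3),(276,5),(277,4),(278,3),(279,1),(280,2),(281,3),(282,8),(283,7),(284,3),(285,5),(286,4),(287,3),(288,1),(289,2),(290,3),(291,8),(292,7),(293,3),(294,5),(295,4),(296,3),(297,1),(298,2),(299,3),(300,8),(301,7),(302,3),(303,5),(304,4),(305,3),(306,1),(307,2),(308,3),(309,8),(310,7),(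311,3),(312,5),(313,4),(314,3),(315,1),(316,2),(317,3),(318,8),(319,7),(320,3),(321,5),(73,1),(65,1),(66,3),(65,3),(326,7),(327,3),(92,3),(79,1),(67,1),(68,4),(79,3),(101,8),(334,3),(335,4),(336,7),(76,1),(76,2),(339,3),(326,4),(341,3),(89,4),(89,5),(99,6),(88,4),(346,5),(347,4),(345,5),(349,4),(350,3),(351,2),(352,1),(353,7),(354,6),(355,5),(356,4),(357,3),(358,2),(359,1),(360,7),(361,6),(362,5),(363,4),(364,3),(365,2),(366,1),(367,7),(368,6),(369,5),(370,4),(371,3),(372,2),(373,1),(374,7),(375,6),(376,5),(377,4),(378,3),(379,2),(380,1),(381,7),(382,6),(383,5),(384,4),(385,3),(386,2),(387,1),(388,7),(389,6),(390,5),(391,4),(392,3),(393,2),(394,1),(395,7),(396,6),(397,5),(398,4),(399,3),(400,2),(401,1),(402,7),(403,6),(404,5),(94,0),(91,0),(91,3),(90,3),(409,7),(410,3),(92,4),(92,7),(407,5),(414,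1),(413,4),(416,3),(417,2),(418,1),(195,3),(219,8),(421,3),(163,7),(423,4),(424,3),(175,4),(426,5),(427,4),(331,8),(429,3),(187,3),(197,7),(432,3),(431,4),(188,3),(338,7),(331,4),(183,3),(405,0),(438,0),(191,4),(185,4),(433,8),(443,7),(212,5),(441,3),(212,7),(447,8),(448,7),(39,2),(342,5),(451,1),(452,8),(453,3),(454,4),(455,7),(450,0),(227,5),(458,1),(459,8),(460,3),(461,4)],[(0,0,1,0,[],[]),(0,1,2,0,[],[]),(0,2,3,0,[],[]),(0,3,4,0,[],[]),(0,4,5,0,[],[]),(0,5,6,0,[],[]),(0,7,7,0,[],[]),(0,8,8,0,[],[]),(3,0,9,0,[],[]),(9,2,1,4,[(1,0,2),(1,0,8)],[(1,0,0)]),(4,0,10,0,[],[]),(10,3,1,5,[(1,0,3),(1,0,10)],[(1,0,0)]),(5,0,11,0,[],[]),(11,4,1,6,[(1,0,4),(1,0,12)],[(1,0,0)]),(6,0,12,0,[],[]),(12,5,1,7,[(1,0,5),(1,0,14)],[(1,0,0)]),(7,0,13,0,[],[]),(13,7,1,9,[(1,0,6),(1,0,16)],[(1,0,0)]),(8,0,14,0,[],[]),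(14,8,1,10,[(1,0,7),(1,0,18)],[(1,0,0)]),(4,1,15,0,[],[]),(15,3,2,13,[(1,0,3),(1,0,20)],[(1,0,1)]),(5,1,16,0,[],[]),(16,4,2,14,[(1,0,4),(1,0,22)],[(1,0,1)]),(6,1,17,0,[],[]),(17,5,2,15,[(1,0,5),(1,0,24)],[(1,0,1)]),(7,1,18,0,[],[]),(18,7,2,17,[(1,0,6),(1,0,26)],[(1,0,1)]),(8,1,19,0,[],[]),(19,8,2,18,[(1,0,7),(1,0,28)],[(1,0,1)]),(5,2,20,0,[],[]),(20,4,3,21,[(1,0,4),(1,0,30)],[(1,0,2)]),(6,2,21,0,[],[]),(21,5,3,22,[(1,0,5),(1,0,32)],[(1,0,2)]),(7,2,22,0,[],[]),(22,7,3,24,[(1,0,6),(1,0,34)],[(1,0,2)]),(8,2,23,0,[],[]),(6,3,24,0,[],[]),(24,5,4,28,[(1,0,5),(1,0,37)],[(1,0,3)]),(8,3,25,0,[],[]),(25,8,4,31,[(1,0,7),(1,0,39)],[(1,0,3)]),(7,4,26,0,[],[]),(26,7,5,35,[(1,0,6),(1,0,41)],[(1,0,4)]),(8,4,27,0,[],[]),(27,8,5,36,[(1,0,7),(1,0,43)],[(1,0,4)]),(8,5,28,0,[],[]),(28,8,6,40,[(1,0,7),(1,0,45)],[(1,0,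5)]),(2,0,29,0,[],[]),(29,1,30,0,[],[]),(30,0,31,0,[],[]),(31,1,1,3,[(1,0,1),(1,0,47),(1,0,48),(1,0,49)],[(1,0,0)]),(4,2,32,0,[],[]),(32,3,33,0,[],[]),(33,2,34,0,[],[]),(34,3,3,20,[(1,0,3),(1,0,51),(1,0,52),(1,0,53)],[(1,0,2)]),(5,3,35,0,[],[]),(35,4,36,0,[],[]),(36,3,37,0,[],[]),(37,4,4,27,[(1,0,4),(1,0,55),(1,0,56),(1,0,57)],[(1,0,3)]),(7,3,38,0,[],[]),(38,7,39,0,[],[]),(39,3,40,0,[],[]),(40,7,4,30,[(1,0,6),(1,0,59),(1,0,60),(1,0,61)],[(1,0,3)]),(6,4,41,0,[],[]),(41,5,42,0,[],[]),(42,4,43,0,[],[]),(43,5,5,33,[(1,0,5),(1,0,63),(1,0,64),(1,0,65)],[(1,0,4)]),(8,7,44,0,[],[]),(11,5,45,0,[],[]),(45,1,46,0,[],[]),(46,8,47,0,[],[]),(47,3,48,0,[],[]),(48,4,49,0,[],[]),(49,7,50,0,[],[]),(50,3,22,50,[(1,0,0),(2,0,13),(1,0,68),(1,0,69),(1,0,70),(1,0,71),(1,0,72),(1,0,73)],[(1,0,6),(1,0,34)]),(44,3,51,0,[]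,[]),(51,5,52,0,[],[]),(52,4,53,0,[],[]),(53,3,54,0,[],[]),(43,0,45,7,[(2,0,66)],[(1,0,12),(1,0,68)]),(10,1,55,0,[],[]),(55,3,31,13,[(2,0,11),(1,0,80)],[(2,0,50)]),(11,1,56,0,[],[]),(56,4,31,14,[(2,0,13),(1,0,82)],[(2,0,50)]),(12,1,57,0,[],[]),(13,1,58,0,[],[]),(58,7,31,17,[(2,0,17),(1,0,85)],[(2,0,50)]),(14,1,59,0,[],[]),(59,8,31,18,[(2,0,19),(1,0,87)],[(2,0,50)]),(11,2,60,0,[],[]),(60,4,9,21,[(2,0,13),(1,0,89)],[(2,0,9)]),(12,2,61,0,[],[]),(61,5,9,22,[(2,0,15),(1,0,91)],[(2,0,9)]),(13,2,62,0,[],[]),(62,7,9,24,[(2,0,17),(1,0,93)],[(2,0,9)]),(12,3,63,0,[],[]),(14,3,64,0,[],[]),(64,8,10,31,[(2,0,19),(1,0,96)],[(2,0,11)]),(13,4,65,0,[],[]),(65,7,11,35,[(2,0,17),(1,0,98)],[(2,0,13)]),(14,4,66,0,[],[]),(66,8,11,36,[(2,0,19),(1,0,100)],[(2,0,13)]),(13,5,67,0,[],[]),(67,7,12,39,[(2,0,17),(1,0,102)],[(2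,0,15)]),(14,5,68,0,[],[]),(68,8,12,40,[(2,0,19),(1,0,104)],[(2,0,15)]),(9,1,69,0,[],[]),(10,2,70,0,[],[]),(70,3,71,0,[],[]),(71,2,72,0,[],[]),(72,3,9,20,[(2,0,11),(1,0,107),(1,0,108),(1,0,109)],[(2,0,9)]),(11,3,73,0,[],[]),(73,4,74,0,[],[]),(74,3,75,0,[],[]),(75,4,10,27,[(2,0,13),(1,0,111),(1,0,112),(1,0,113)],[(2,0,11)]),(13,3,76,0,[],[]),(76,7,77,0,[],[]),(77,3,78,0,[],[]),(78,7,10,30,[(2,0,17),(1,0,115),(1,0,116),(1,0,117)],[(2,0,11)]),(12,4,79,0,[],[]),(79,5,80,0,[],[]),(80,4,45,33,[(2,0,15),(1,0,119),(1,0,120)],[(2,0,13),(1,0,68)]),(43,1,81,0,[],[]),(81,8,82,0,[],[]),(82,3,83,0,[],[]),(83,4,84,0,[],[]),(84,7,85,0,[],[]),(85,3,62,50,[(2,0,0),(1,0,4),(2,0,66),(1,0,122),(1,0,123),(1,0,124),(1,0,125),(1,0,126)],[(2,0,17),(1,0,93)]),(60,0,20,4,[(1,0,89)],[(2,0,12),(1,0,30)]),(62,0,22,4,[(1,0,93)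],[(2,0,16),(1,0,34)]),(72,0,34,5,[(2,0,110)],[(2,0,8),(2,0,54)]),(73,0,35,5,[(1,0,111)],[(2,0,12),(1,0,55)]),(76,0,38,5,[(1,0,115)],[(2,0,16),(1,0,59)]),(75,0,37,6,[(2,0,114)],[(2,0,10),(2,0,58)]),(79,0,41,6,[(1,0,119)],[(2,0,14),(1,0,63)]),(65,0,26,6,[(1,0,98)],[(2,0,16),(1,0,41)]),(66,0,27,6,[(1,0,100)],[(2,0,18),(1,0,43)]),(68,0,28,7,[(1,0,104)],[(2,0,18),(1,0,45)]),(78,0,40,9,[(2,0,118)],[(2,0,10),(2,0,62)]),(46,5,56,15,[(1,0,68),(1,0,69)],[(1,0,82)]),(16,0,86,0,[],[]),(19,0,87,0,[],[]),(87,8,29,10,[(2,0,29),(1,0,141)],[(1,0,47)]),(17,3,88,0,[],[]),(88,5,15,28,[(2,0,25),(1,0,143)],[(2,0,21)]),(19,3,89,0,[],[]),(89,8,15,31,[(2,0,29),(1,0,145)],[(2,0,21)]),(18,4,90,0,[],[]),(90,7,16,35,[(2,0,27),(1,0,147)],[(2,0,23)]),(19,4,91,0,[],[]),(91,8,16,36,[(2,0,29),(1,0,149)],[(2,0,23)]),(19,5,92,0,[]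,[]),(18,6,93,0,[],[]),(16,3,94,0,[],[]),(94,4,95,0,[],[]),(95,3,96,0,[],[]),(96,4,15,27,[(2,0,23),(1,0,153),(1,0,154),(1,0,155)],[(2,0,21)]),(18,3,97,0,[],[]),(97,7,98,0,[],[]),(98,3,99,0,[],[]),(99,7,15,30,[(2,0,27),(1,0,157),(1,0,158),(1,0,159)],[(2,0,21)]),(17,4,100,0,[],[]),(100,5,101,0,[],[]),(101,4,102,0,[],[]),(102,5,16,33,[(2,0,25),(1,0,161),(1,0,162),(1,0,163)],[(2,0,23)]),(86,5,103,0,[],[]),(103,1,104,0,[],[]),(93,5,105,0,[],[]),(105,4,106,0,[],[]),(106,3,107,0,[],[]),(107,2,108,0,[],[]),(108,1,109,0,[],[]),(109,7,110,0,[],[]),(110,6,111,0,[],[]),(111,5,112,0,[],[]),(112,4,113,0,[],[]),(113,3,114,0,[],[]),(114,2,115,0,[],[]),(115,1,116,0,[],[]),(116,7,117,0,[],[]),(117,6,118,0,[],[]),(118,5,119,0,[],[]),(119,4,120,0,[],[]),(120,3,121,0,[],[]),(121,2,122,0,[],[]),(122,1,123,0,[],[]),(12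3,7,124,0,[],[]),(124,6,125,0,[],[]),(125,5,126,0,[],[]),(126,4,127,0,[],[]),(127,3,128,0,[],[]),(128,2,129,0,[],[]),(129,1,130,0,[],[]),(130,7,131,0,[],[]),(131,6,132,0,[],[]),(132,5,133,0,[],[]),(133,4,134,0,[],[]),(134,3,135,0,[],[]),(135,2,136,0,[],[]),(136,1,137,0,[],[]),(137,7,138,0,[],[]),(138,6,139,0,[],[]),(139,5,140,0,[],[]),(140,4,141,0,[],[]),(141,3,142,0,[],[]),(142,2,143,0,[],[]),(143,1,144,0,[],[]),(144,7,145,0,[],[]),(145,6,146,0,[],[]),(146,5,147,0,[],[]),(147,4,148,0,[],[]),(148,3,149,0,[],[]),(149,2,150,0,[],[]),(150,1,151,0,[],[]),(151,7,152,0,[],[]),(152,6,153,0,[],[]),(153,5,154,0,[],[]),(154,4,155,0,[],[]),(155,3,156,0,[],[]),(156,2,157,0,[],[]),(157,1,158,0,[],[]),(158,7,159,0,[],[]),(159,6,160,0,[],[]),(160,5,161,0,[],[]),(161,4,34,49,[(2,0,27),(1,0,152),(1,0,167),(1,0,16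8),(1,0,169),(1,0,170),(1,0,171),(1,0,172),(1,0,173),(1,0,174),(1,0,175),(1,0,176),(1,0,177),(1,0,178),(1,0,179),(1,0,180),(1,0,181),(1,0,182),(1,0,183),(1,0,184),(1,0,185),(1,0,186),(1,0,187),(1,0,188),(1,0,189),(1,0,190),(1,0,191),(1,0,192),(1,0,193),(1,0,194),(1,0,195),(1,0,196),(1,0,197),(1,0,198),(1,0,199),(1,0,200),(1,0,201),(1,0,202),(1,0,203),(1,0,204),(1,0,205),(1,0,206),(1,0,207),(1,0,208),(1,0,209),(1,0,210),(1,0,211),(1,0,212),(1,0,213),(1,0,214),(1,0,215),(1,0,216),(1,0,217),(1,0,218),(1,0,219),(1,0,220),(1,0,221),(1,0,222),(1,0,223)],[(2,0,1),(1,0,2),(2,0,54)]),(102,0,103,7,[(2,0,164)],[(1,0,140),(1,0,165)]),(94,1,35,13,[(1,0,153)],[(2,0,22),(1,0,55)]),(88,1,24,13,[(1,0,143)],[(2,0,24),(1,0,37)]),(89,1,25,13,[(1,0,145)],[(2,0,28),(1,0,39)]),(96,1,37,14,[(2,0,156)],[(2,0,20),(2,0,58)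]),(90,1,26,14,[(1,0,147)],[(2,0,26),(1,0,41)]),(91,1,27,14,[(1,0,149)],[(2,0,28),(1,0,43)]),(102,9,81,15,[(2,0,164)],[(2,0,22),(2,0,66),(1,0,122)]),(102,9,81,1,[(1,0,232)],[]),(81,0,103,1,[(2,0,233),(1,0,225)],[]),(81,4,101,1,[(2,0,233),(2,0,163)],[]),(81,5,16,1,[(2,0,233),(1,0,164)],[]),(92,1,28,15,[(1,0,151)],[(2,0,28),(1,0,45)]),(91,5,82,40,[(2,0,150)],[(2,0,236),(1,0,123)]),(22,4,162,0,[],[]),(162,7,20,35,[(2,0,35),(1,0,239)],[(2,0,31)]),(23,5,163,0,[],[]),(20,3,164,0,[],[]),(49,3,165,0,[],[]),(165,7,34,30,[(2,0,35),(2,0,74),(2,0,73),(1,0,243)],[(2,0,54)]),(21,4,166,0,[],[]),(166,5,167,0,[],[]),(167,4,168,0,[],[]),(168,5,20,33,[(2,0,33),(1,0,245),(1,0,246),(1,0,247)],[(2,0,31)]),(60,5,169,0,[],[]),(169,1,170,0,[],[]),(170,8,171,0,[],[]),(171,3,172,0,[],[]),(172,4,39,50,[(1,0,8),(2,0,90),(1,0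,249),(1,0,250),(1,0,251),(1,0,252)],[(2,0,35),(2,0,34),(1,0,59),(1,0,60)]),(33,0,71,4,[(2,0,53)],[(2,0,130),(2,0,109)]),(50,0,85,5,[(2,0,74)],[(2,0,129),(2,0,127)]),(162,2,26,21,[(1,0,239)],[(2,0,34),(1,0,41)]),(163,2,28,22,[(1,0,241)],[(2,0,36),(1,0,45)]),(40,2,173,0,[],[]),(173,7,32,24,[(2,0,62),(1,0,258)],[(1,0,51)]),(25,4,174,0,[],[]),(174,8,37,36,[(2,0,40),(1,0,260)],[(2,0,58)]),(25,5,175,0,[],[]),(24,4,176,0,[],[]),(176,5,177,0,[],[]),(177,4,178,0,[],[]),(178,5,37,33,[(2,0,38),(1,0,263),(1,0,264),(1,0,265)],[(2,0,58)]),(75,5,179,0,[],[]),(179,1,180,0,[],[]),(180,8,181,0,[],[]),(181,3,182,0,[],[]),(182,4,183,0,[],[]),(183,7,184,0,[],[]),(184,3,173,50,[(1,0,10),(2,0,114),(1,0,267),(1,0,268),(1,0,269),(1,0,270),(1,0,271),(1,0,272)],[(2,0,62),(1,0,258)]),(36,0,74,5,[(2,0,57)],[(2,0,133),(2,0,1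13)]),(39,0,77,5,[(2,0,61)],[(2,0,138),(2,0,117)]),(43,3,185,0,[],[]),(185,5,35,28,[(2,0,66),(1,0,276)],[(1,0,55)]),(27,3,186,0,[],[]),(186,8,35,31,[(2,0,44),(1,0,278)],[(1,0,55)]),(27,5,187,0,[],[]),(187,8,43,40,[(2,0,44),(1,0,280)],[(2,0,66)]),(86,1,188,0,[],[]),(188,0,56,3,[(1,0,22),(1,0,140),(1,0,282)],[(1,0,12),(1,0,82)]),(26,3,189,0,[],[]),(189,7,190,0,[],[]),(190,3,191,0,[],[]),(191,7,35,30,[(2,0,42),(1,0,284),(1,0,285),(1,0,286)],[(1,0,55)]),(27,7,192,0,[],[]),(57,8,193,0,[],[]),(193,3,194,0,[],[]),(194,4,195,0,[],[]),(195,7,196,0,[],[]),(196,3,162,50,[(1,0,12),(1,0,13),(2,0,15),(1,0,84),(1,0,289),(1,0,290),(1,0,291),(1,0,292)],[(2,0,42),(2,0,256)]),(192,3,197,0,[],[]),(42,1,101,14,[(2,0,65)],[(1,0,122),(1,0,235)]),(187,1,82,15,[(1,0,280)],[(2,0,231),(1,0,238)]),(104,0,46,3,[(1,0,122),(1,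0,234),(1,0,166)],[(1,0,79),(1,0,69)]),(28,4,198,0,[],[]),(41,3,199,0,[],[]),(28,7,200,0,[],[]),(80,1,201,0,[],[]),(200,3,202,0,[],[]),(202,5,203,0,[],[]),(68,1,193,18,[(2,0,105)],[(1,0,84),(1,0,289)]),(200,5,44,39,[(1,0,300)],[(2,0,45),(1,0,67)]),(38,2,204,0,[],[]),(204,3,205,0,[],[]),(205,2,50,20,[(1,0,59),(1,0,306),(1,0,307)],[(1,0,34),(2,0,74)]),(189,4,206,0,[],[]),(206,3,207,0,[],[]),(207,4,38,27,[(1,0,41),(1,0,284),(1,0,309),(1,0,310)],[(1,0,59)]),(65,5,208,0,[],[]),(208,1,209,0,[],[]),(209,8,210,0,[],[]),(210,3,211,0,[],[]),(211,4,165,50,[(1,0,16),(1,0,98),(1,0,312),(1,0,313),(1,0,314),(1,0,315)],[(2,0,6),(1,0,2),(2,0,54),(2,0,244)]),(172,7,207,35,[(1,0,60),(2,0,253)],[(2,0,311)]),(186,4,212,0,[],[]),(212,3,174,27,[(1,0,43),(1,0,278),(1,0,318)],[(1,0,39),(1,0,260)]),(66,5,213,0,[],[]),(213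,1,214,0,[],[]),(214,8,215,0,[],[]),(200,4,216,0,[],[]),(216,3,217,0,[],[]),(187,0,213,7,[(1,0,280)],[(2,0,136),(1,0,320)]),(203,9,51,28,[(2,0,305),(1,0,302),(1,0,303)],[(1,0,75)]),(203,9,51,1,[(1,0,326)],[]),(51,5,202,1,[(2,0,327),(2,0,303)],[]),(52,9,202,1,[(2,0,76),(1,0,328)],[]),(202,9,52,1,[(2,0,329)],[]),(52,3,200,1,[(2,0,330),(2,0,302)],[]),(216,7,198,35,[(1,0,300),(1,0,323)],[(1,0,298)]),(72,1,218,0,[],[]),(218,3,69,13,[(2,0,110),(1,0,333)],[(1,0,106)]),(61,1,219,0,[],[]),(62,1,220,0,[],[]),(220,7,69,17,[(2,0,94),(1,0,336)],[(1,0,106)]),(62,5,221,0,[],[]),(60,3,222,0,[],[]),(222,4,223,0,[],[]),(223,3,224,0,[],[]),(224,4,72,27,[(2,0,90),(1,0,339),(1,0,340),(1,0,341)],[(2,0,110)]),(168,1,225,0,[],[]),(225,8,226,0,[],[]),(226,3,227,0,[],[]),(227,4,77,50,[(2,0,8),(2,0,31),(2,0,248),(1,0,343),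(1,0,344),(1,0,345)],[(2,0,94),(2,0,93),(1,0,115),(1,0,116)]),(224,0,161,6,[(2,0,342)],[(1,0,130),(2,0,224)]),(221,2,67,22,[(1,0,338)],[(2,0,93),(1,0,102)]),(75,1,228,0,[],[]),(228,4,55,14,[(2,0,114),(1,0,349)],[(1,0,80)]),(63,1,229,0,[],[]),(78,1,230,0,[],[]),(230,7,55,17,[(2,0,118),(1,0,352)],[(1,0,80)]),(78,2,231,0,[],[]),(231,7,70,24,[(2,0,118),(1,0,354)],[(1,0,107)]),(78,4,232,0,[],[]),(232,7,75,35,[(2,0,118),(1,0,356)],[(2,0,114)]),(64,5,233,0,[],[]),(64,7,234,0,[],[]),(178,1,235,0,[],[]),(235,8,236,0,[],[]),(236,3,237,0,[],[]),(237,4,238,0,[],[]),(238,7,239,0,[],[]),(239,3,231,50,[(2,0,10),(2,0,58),(2,0,266),(1,0,360),(1,0,361),(1,0,362),(1,0,363),(1,0,364)],[(2,0,118),(1,0,354)]),(234,3,240,0,[],[]),(240,5,241,0,[],[]),(241,4,242,0,[],[]),(242,3,243,0,[],[]),(243,1,244,0,[],[]),(244,2,245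,0,[],[]),(245,3,246,0,[],[]),(246,8,247,0,[],[]),(247,7,248,0,[],[]),(248,3,249,0,[],[]),(249,5,250,0,[],[]),(250,4,251,0,[],[]),(251,3,252,0,[],[]),(252,1,253,0,[],[]),(253,2,254,0,[],[]),(254,3,255,0,[],[]),(255,8,256,0,[],[]),(256,7,257,0,[],[]),(257,3,258,0,[],[]),(258,5,259,0,[],[]),(259,4,260,0,[],[]),(260,3,261,0,[],[]),(261,1,262,0,[],[]),(262,2,263,0,[],[]),(263,3,264,0,[],[]),(264,8,265,0,[],[]),(265,7,266,0,[],[]),(266,3,267,0,[],[]),(267,5,268,0,[],[]),(268,4,269,0,[],[]),(269,3,270,0,[],[]),(270,1,271,0,[],[]),(271,2,272,0,[],[]),(272,3,273,0,[],[]),(273,8,274,0,[],[]),(274,7,275,0,[],[]),(275,3,276,0,[],[]),(276,5,277,0,[],[]),(277,4,278,0,[],[]),(278,3,279,0,[],[]),(279,1,280,0,[],[]),(280,2,281,0,[],[]),(281,3,282,0,[],[]),(282,8,283,0,[],[]),(283,7,284,0,[],[]),(284,3,285,0,[],[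]),(285,5,286,0,[],[]),(286,4,287,0,[],[]),(287,3,288,0,[],[]),(288,1,289,0,[],[]),(289,2,290,0,[],[]),(290,3,291,0,[],[]),(291,8,292,0,[],[]),(292,7,293,0,[],[]),(293,3,294,0,[],[]),(294,5,295,0,[],[]),(295,4,296,0,[],[]),(296,3,297,0,[],[]),(297,1,298,0,[],[]),(298,2,299,0,[],[]),(299,3,300,0,[],[]),(300,8,301,0,[],[]),(301,7,302,0,[],[]),(302,3,303,0,[],[]),(303,5,304,0,[],[]),(304,4,305,0,[],[]),(305,3,306,0,[],[]),(306,1,307,0,[],[]),(307,2,308,0,[],[]),(308,3,309,0,[],[]),(309,8,310,0,[],[]),(310,7,311,0,[],[]),(311,3,312,0,[],[]),(312,5,313,0,[],[]),(313,4,314,0,[],[]),(314,3,315,0,[],[]),(315,1,316,0,[],[]),(316,2,317,0,[],[]),(317,3,318,0,[],[]),(318,8,319,0,[],[]),(319,7,320,0,[],[]),(320,3,321,0,[],[]),(321,5,322,0,[],[]),(322,4,218,47,[(2,0,97),(1,0,359),(1,0,366),(1,0,367),(1,0,368),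(1,0,369),(1,0,370),(1,0,371),(1,0,372),(1,0,373),(1,0,374),(1,0,375),(1,0,376),(1,0,377),(1,0,378),(1,0,379),(1,0,380),(1,0,381),(1,0,382),(1,0,383),(1,0,384),(1,0,385),(1,0,386),(1,0,387),(1,0,388),(1,0,389),(1,0,390),(1,0,391),(1,0,392),(1,0,393),(1,0,394),(1,0,395),(1,0,396),(1,0,397),(1,0,398),(1,0,399),(1,0,400),(1,0,401),(1,0,402),(1,0,403),(1,0,404),(1,0,405),(1,0,406),(1,0,407),(1,0,408),(1,0,409),(1,0,410),(1,0,411),(1,0,412),(1,0,413),(1,0,414),(1,0,415),(1,0,416),(1,0,417),(1,0,418),(1,0,419),(1,0,420),(1,0,421),(1,0,422),(1,0,423),(1,0,424),(1,0,425),(1,0,426),(1,0,427),(1,0,428),(1,0,429),(1,0,430),(1,0,431),(1,0,432),(1,0,433),(1,0,434),(1,0,435),(1,0,436),(1,0,437),(1,0,438),(1,0,439),(1,0,440),(1,0,441),(1,0,442),(1,0,443),(1,0,444),(1,0,445),(1,0,446),(1,0,447),(1,0,448)],[(1,0,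11),(2,0,9),(1,0,106),(2,0,334)]),(231,0,173,4,[(1,0,354)],[(1,0,138),(1,0,258)]),(57,3,229,13,[(2,0,95),(1,0,84)],[(1,0,351)]),(233,3,68,28,[(1,0,358)],[(2,0,96),(1,0,104)]),(73,1,323,0,[],[]),(323,3,56,13,[(1,0,111),(1,0,453)],[(1,0,82)]),(65,1,324,0,[],[]),(324,7,56,17,[(2,0,99),(1,0,455)],[(1,0,82)]),(66,3,325,0,[],[]),(325,8,73,31,[(2,0,101),(1,0,457)],[(1,0,111)]),(208,7,45,39,[(2,0,99),(1,0,312)],[(1,0,68)]),(213,8,45,40,[(2,0,101),(1,0,320)],[(1,0,68)]),(65,3,326,0,[],[]),(326,7,327,0,[],[]),(327,3,328,0,[],[]),(328,7,73,30,[(2,0,99),(1,0,461),(1,0,462),(1,0,463)],[(1,0,111)]),(92,3,329,0,[],[]),(325,0,186,5,[(1,0,457)],[(1,0,136),(1,0,278)]),(328,0,191,9,[(2,0,464)],[(1,0,131),(2,0,287)]),(201,4,46,14,[(2,0,121),(1,0,301)],[(1,0,69)]),(209,5,324,15,[(1,0,312),(1,0,313)],[(1,0,455)]),(209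,7,46,17,[(2,0,459),(1,0,313)],[(1,0,69)]),(215,9,46,18,[(2,0,460),(1,0,321),(1,0,322)],[(1,0,69)]),(215,9,46,1,[(1,0,471)],[]),(46,8,214,1,[(2,0,472),(2,0,322)],[]),(47,9,214,1,[(2,0,70),(1,0,473)],[]),(214,9,47,1,[(2,0,474)],[]),(47,1,213,1,[(2,0,475),(2,0,321)],[]),(79,1,330,0,[],[]),(330,4,57,14,[(1,0,119),(1,0,477)],[(1,0,84)]),(67,1,331,0,[],[]),(331,7,57,17,[(2,0,103),(1,0,479)],[(1,0,84)]),(68,4,332,0,[],[]),(79,3,333,0,[],[]),(101,8,334,0,[],[]),(334,3,335,0,[],[]),(335,4,336,0,[],[]),(336,7,337,0,[],[]),(337,3,221,50,[(2,0,14),(1,0,63),(1,0,64),(1,0,295),(1,0,483),(1,0,484),(1,0,485),(1,0,486)],[(2,0,103),(2,0,348)]),(333,0,199,5,[(1,0,482)],[(1,0,134),(1,0,299)]),(332,0,198,6,[(1,0,481)],[(1,0,137),(1,0,298)]),(233,1,194,13,[(2,0,452)],[(1,0,304),(1,0,290)]),(201,5,330,15,[(1,0,120),(1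,0,301)],[(1,0,477)]),(76,1,338,0,[],[]),(338,3,58,13,[(1,0,115),(1,0,492)],[(1,0,85)]),(76,2,339,0,[],[]),(339,3,340,0,[],[]),(340,2,85,20,[(1,0,115),(1,0,494),(1,0,495)],[(1,0,93),(2,0,127)]),(326,4,341,0,[],[]),(341,3,342,0,[],[]),(342,4,76,27,[(1,0,98),(1,0,461),(1,0,497),(1,0,498)],[(1,0,115)]),(339,0,204,4,[(1,0,494)],[(1,0,132),(1,0,306)]),(337,5,85,28,[(1,0,338),(2,0,487)],[(2,0,127)]),(89,4,343,0,[],[]),(343,8,96,36,[(2,0,146),(1,0,502)],[(2,0,156)]),(89,5,344,0,[],[]),(344,8,88,40,[(2,0,146),(1,0,504)],[(2,0,144)]),(99,6,345,0,[],[]),(88,4,346,0,[],[]),(346,5,347,0,[],[]),(347,4,348,0,[],[]),(348,5,96,33,[(2,0,144),(1,0,507),(1,0,508),(1,0,509)],[(2,0,156)]),(345,5,349,0,[],[]),(349,4,350,0,[],[]),(350,3,351,0,[],[]),(351,2,352,0,[],[]),(352,1,353,0,[],[]),(353,7,354,0,[],[]),(354,6,355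,0,[],[]),(355,5,356,0,[],[]),(356,4,357,0,[],[]),(357,3,358,0,[],[]),(358,2,359,0,[],[]),(359,1,360,0,[],[]),(360,7,361,0,[],[]),(361,6,362,0,[],[]),(362,5,363,0,[],[]),(363,4,364,0,[],[]),(364,3,365,0,[],[]),(365,2,366,0,[],[]),(366,1,367,0,[],[]),(367,7,368,0,[],[]),(368,6,369,0,[],[]),(369,5,370,0,[],[]),(370,4,371,0,[],[]),(371,3,372,0,[],[]),(372,2,373,0,[],[]),(373,1,374,0,[],[]),(374,7,375,0,[],[]),(375,6,376,0,[],[]),(376,5,377,0,[],[]),(377,4,378,0,[],[]),(378,3,379,0,[],[]),(379,2,380,0,[],[]),(380,1,381,0,[],[]),(381,7,382,0,[],[]),(382,6,383,0,[],[]),(383,5,384,0,[],[]),(384,4,385,0,[],[]),(385,3,386,0,[],[]),(386,2,387,0,[],[]),(387,1,388,0,[],[]),(388,7,389,0,[],[]),(389,6,390,0,[],[]),(390,5,391,0,[],[]),(391,4,392,0,[],[]),(392,3,393,0,[],[]),(393,2,394,0,[],[]),(394,1,395,0,[],[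]),(395,7,396,0,[],[]),(396,6,397,0,[],[]),(397,5,398,0,[],[]),(398,4,399,0,[],[]),(399,3,400,0,[],[]),(400,2,401,0,[],[]),(401,1,402,0,[],[]),(402,7,403,0,[],[]),(403,6,404,0,[],[]),(404,5,405,0,[],[]),(405,4,33,49,[(2,0,160),(1,0,506),(1,0,511),(1,0,512),(1,0,513),(1,0,514),(1,0,515),(1,0,516),(1,0,517),(1,0,518),(1,0,519),(1,0,520),(1,0,521),(1,0,522),(1,0,523),(1,0,524),(1,0,525),(1,0,526),(1,0,527),(1,0,528),(1,0,529),(1,0,530),(1,0,531),(1,0,532),(1,0,533),(1,0,534),(1,0,535),(1,0,536),(1,0,537),(1,0,538),(1,0,539),(1,0,540),(1,0,541),(1,0,542),(1,0,543),(1,0,544),(1,0,545),(1,0,546),(1,0,547),(1,0,548),(1,0,549),(1,0,550),(1,0,551),(1,0,552),(1,0,553),(1,0,554),(1,0,555),(1,0,556),(1,0,557),(1,0,558),(1,0,559),(1,0,560),(1,0,561),(1,0,562),(1,0,563),(1,0,564),(1,0,565),(1,0,566),(1,0,567)]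,[(2,0,20),(1,0,51),(1,0,52)]),(343,1,174,14,[(1,0,502)],[(1,0,228),(1,0,260)]),(348,9,235,15,[(2,0,510)],[(1,0,229),(2,0,266),(1,0,360)]),(348,9,235,1,[(1,0,570)],[]),(235,5,96,1,[(2,0,571),(1,0,510)],[]),(344,9,329,28,[(1,0,504)],[(2,0,145),(1,0,151),(1,0,465)]),(344,9,329,1,[(1,0,573)],[]),(329,8,88,1,[(2,0,574),(1,0,505)],[]),(343,5,236,40,[(2,0,503)],[(2,0,572),(1,0,361)]),(94,0,406,0,[],[]),(406,3,86,5,[(1,0,153),(1,0,577)],[(1,0,140)]),(91,0,407,0,[],[]),(407,8,86,10,[(2,0,150),(1,0,579)],[(1,0,140)]),(91,3,408,0,[],[]),(408,8,94,31,[(2,0,150),(1,0,581)],[(1,0,153)]),(90,3,409,0,[],[]),(409,7,410,0,[],[]),(410,3,411,0,[],[]),(411,7,94,30,[(2,0,148),(1,0,583),(1,0,584),(1,0,585)],[(1,0,153)]),(87,4,407,6,[(2,0,149),(1,0,141)],[(1,0,579)]),(409,1,189,13,[(1,0,583)],[(1,0,230),(1,0,284)]),(40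8,1,186,13,[(1,0,581)],[(1,0,231),(1,0,278)]),(83,5,408,28,[(1,0,238),(1,0,124)],[(1,0,581)]),(82,4,334,36,[(1,0,123)],[(1,0,235),(1,0,483)]),(92,4,412,0,[],[]),(92,7,413,0,[],[]),(413,1,200,17,[(1,0,593)],[(1,0,237),(1,0,300)]),(407,5,414,0,[],[]),(414,1,415,0,[],[]),(413,4,416,0,[],[]),(416,3,417,0,[],[]),(417,2,418,0,[],[]),(418,1,419,0,[],[]),(82,0,414,7,[(1,0,238)],[(1,0,579),(1,0,595)]),(416,7,412,35,[(1,0,593),(1,0,597)],[(1,0,592)]),(195,3,420,0,[],[]),(420,7,164,30,[(2,0,240),(2,0,293),(2,0,292),(1,0,603)],[(1,0,242)]),(219,8,421,0,[],[]),(421,3,422,0,[],[]),(422,4,190,50,[(2,0,128),(1,0,90),(2,0,92),(1,0,335),(1,0,605),(1,0,606)],[(2,0,240),(1,0,256),(1,0,284),(1,0,285)]),(163,7,423,0,[],[]),(423,2,200,24,[(1,0,608)],[(1,0,257),(1,0,300)]),(49,0,84,9,[(2,0,73)],[(1,0,255),(2,0,126)]),(4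23,4,424,0,[],[]),(424,3,425,0,[],[]),(175,4,426,0,[],[]),(426,5,427,0,[],[]),(427,4,428,0,[],[]),(428,5,174,33,[(1,0,262),(1,0,613),(1,0,614),(1,0,615)],[(1,0,260)]),(428,1,236,15,[(2,0,616)],[(2,0,569),(1,0,576)]),(36,8,212,31,[(1,0,261),(2,0,57)],[(2,0,319)]),(331,8,429,0,[],[]),(429,3,430,0,[],[]),(430,4,420,50,[(2,0,135),(2,0,98),(1,0,102),(1,0,479),(1,0,619),(1,0,620)],[(1,0,42),(1,0,30),(1,0,242),(2,0,604)]),(190,1,410,17,[(1,0,285)],[(2,0,588),(1,0,584)]),(422,7,206,35,[(1,0,285),(2,0,607)],[(1,0,309)]),(187,3,431,0,[],[]),(431,5,186,28,[(1,0,280),(1,0,624)],[(1,0,278)]),(197,7,432,0,[],[]),(432,3,433,0,[],[]),(433,7,186,30,[(1,0,288),(1,0,294),(1,0,626),(1,0,627)],[(1,0,278)]),(431,1,83,13,[(1,0,624)],[(1,0,296),(1,0,124)]),(185,8,431,31,[(1,0,281),(1,0,276)],[(1,0,624)]),(415,0,47,3,[(1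,0,296),(1,0,601),(1,0,596)],[(1,0,325),(2,0,476)]),(216,1,416,14,[(1,0,323)],[(2,0,594),(1,0,597)]),(216,2,424,21,[(1,0,323)],[(2,0,609),(1,0,611)]),(217,4,54,27,[(1,0,323),(1,0,324)],[(2,0,331),(1,0,77),(1,0,78)]),(228,7,425,50,[(2,0,489),(2,0,481),(2,0,104),(1,0,87),(1,0,88),(2,0,81),(2,0,350)],[(2,0,332),(1,0,633),(1,0,612)]),(431,4,434,0,[],[]),(414,8,103,40,[(2,0,580),(1,0,595)],[(1,0,165)]),(188,3,435,0,[],[]),(435,0,323,5,[(1,0,638)],[(1,0,283),(2,0,454)]),(435,1,406,13,[(1,0,638)],[(2,0,282),(2,0,578)]),(338,7,436,0,[],[]),(436,3,230,30,[(2,0,86),(2,0,493),(1,0,641)],[(2,0,81),(2,0,353)]),(331,4,437,0,[],[]),(230,4,425,35,[(2,0,353)],[(2,0,350),(1,0,635)]),(437,7,330,35,[(2,0,480),(1,0,643)],[(2,0,478)]),(183,3,438,0,[],[]),(438,7,33,30,[(2,0,259),(2,0,273),(2,0,272),(1,0,646)],[(1,0,52)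]),(184,0,239,5,[(2,0,273)],[(2,0,450),(2,0,365)]),(405,2,161,21,[(2,0,568)],[(1,0,53),(2,0,224)]),(438,2,165,24,[(2,0,647)],[(1,0,53),(2,0,244)]),(405,0,439,0,[],[]),(439,4,71,6,[(2,0,568),(1,0,651)],[(1,0,254)]),(438,0,440,0,[],[]),(440,7,71,9,[(2,0,647),(1,0,653)],[(1,0,254)]),(224,2,439,4,[(1,0,649),(2,0,347)],[(1,0,651)]),(440,3,238,30,[(2,0,654)],[(2,0,108),(2,0,355),(2,0,365),(2,0,364)]),(191,4,441,0,[],[]),(441,7,36,35,[(2,0,287),(1,0,657)],[(1,0,56)]),(185,4,442,0,[],[]),(433,8,443,0,[],[]),(443,7,444,0,[],[]),(444,8,191,45,[(2,0,279),(2,0,628),(1,0,660),(1,0,661)],[(2,0,287)]),(434,8,442,36,[(1,0,630),(1,0,636)],[(1,0,659)]),(212,5,445,0,[],[]),(441,3,446,0,[],[]),(212,7,447,0,[],[]),(447,8,448,0,[],[]),(448,7,449,0,[],[]),(449,8,441,45,[(1,0,618),(1,0,666),(1,0,667),(1,0,668)],[(2,0,65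8)]),(445,3,428,28,[(1,0,664)],[(1,0,319),(2,0,616)]),(447,4,433,35,[(1,0,666)],[(2,0,318),(2,0,628)]),(449,4,444,36,[(2,0,669)],[(2,0,657),(2,0,662)]),(421,4,446,27,[(2,0,657),(2,0,286),(2,0,607),(2,0,606)],[(1,0,665)]),(232,1,425,17,[(2,0,357)],[(1,0,349),(1,0,635)]),(418,9,232,50,[(1,0,133),(1,0,58),(2,0,38),(2,0,227),(2,0,575),(2,0,465),(1,0,592),(2,0,602),(1,0,598),(1,0,599)],[(2,0,357)]),(418,9,232,1,[(1,0,675)],[]),(232,1,419,1,[(2,0,676),(1,0,600)],[]),(425,9,419,1,[(2,0,674),(1,0,677)],[]),(232,2,417,1,[(2,0,676),(2,0,599)],[]),(425,9,419,1,[(1,0,678)],[]),(419,4,230,1,[(2,0,680),(2,0,644)],[]),(419,7,228,1,[(2,0,680),(2,0,635)],[]),(39,2,450,0,[],[]),(450,7,204,24,[(1,0,60),(1,0,683)],[(1,0,306)]),(342,5,451,0,[],[]),(451,1,452,0,[],[]),(452,8,453,0,[],[]),(453,3,454,0,[],[]),(454,4,455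,0,[],[]),(455,7,456,0,[],[]),(456,3,450,50,[(2,0,132),(2,0,499),(1,0,685),(1,0,686),(1,0,687),(1,0,688),(1,0,689),(1,0,690)],[(1,0,60),(1,0,683)]),(184,2,456,20,[(1,0,61),(1,0,258),(2,0,273)],[(1,0,683),(2,0,691)]),(171,7,421,30,[(2,0,317),(2,0,252)],[(2,0,310),(2,0,623),(2,0,606)]),(450,0,457,0,[],[]),(227,5,458,0,[],[]),(458,1,459,0,[],[]),(459,8,460,0,[],[]),(460,3,461,0,[],[]),(461,4,462,0,[],[]),(462,7,205,50,[(1,0,275),(2,0,346),(1,0,695),(1,0,696),(1,0,697),(1,0,698),(1,0,699)],[(2,0,60),(1,0,306),(1,0,307)]),(339,7,457,9,[(1,0,684),(2,0,500)],[(1,0,694)]),(462,3,455,30,[(1,0,684),(1,0,307),(2,0,700)],[(2,0,691),(2,0,690)]),(457,9,84,50,[(1,0,694)],[(1,0,684),(2,0,306),(2,0,59),(2,0,6),(1,0,4),(1,0,55),(2,0,279),(2,0,589),(2,0,590),(1,0,125)]),(457,9,84,1,[(1,0,703)],[]),(84,0,450,1,[(2,0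,704),(2,0,694)],[]),(49,9,450,1,[(1,0,610),(1,0,705)],[]),(84,7,339,1,[(2,0,704),(2,0,701)],[]),(85,9,339,1,[(2,0,126),(1,0,707)],[]),(450,9,49,1,[(2,0,706)],[]),(49,2,39,1,[(2,0,709),(2,0,683)],[]),(49,3,456,1,[(2,0,709),(2,0,691)],[]),(165,9,456,1,[(2,0,243),(1,0,711)],[]),(49,7,204,1,[(2,0,709),(1,0,684)],[]),(50,9,204,1,[(2,0,73),(1,0,713)],[]),(339,9,85,1,[(2,0,708)],[]),(85,2,76,1,[(2,0,715),(2,0,494)],[]),(340,9,76,1,[(1,0,496),(1,0,716)],[]),(85,3,340,1,[(2,0,715),(1,0,495)],[]),(62,9,340,1,[(2,0,127),(1,0,718)],[]),(456,9,165,1,[(2,0,712)],[]),(165,2,184,1,[(2,0,720),(2,0,692)],[]),(438,9,184,1,[(1,0,650),(1,0,721)],[]),(165,7,455,1,[(2,0,720),(2,0,690)],[]),(34,9,455,1,[(2,0,244),(1,0,723)],[]),(204,9,50,1,[(2,0,714)],[]),(50,2,38,1,[(2,0,725),(2,0,306)],[]),(205,9,38,1,[(1,0,308),(1,0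,726)],[]),(50,3,205,1,[(2,0,725),(1,0,307)],[]),(22,9,205,1,[(2,0,74),(1,0,728)],[]),(340,9,76,1,[(1,0,717)],[]),(76,2,85,1,[(2,0,730),(1,0,496)],[]),(76,9,62,1,[(2,0,730),(2,0,719)],[]),(62,1,338,1,[(2,0,732),(1,0,492)],[]),(220,9,338,1,[(2,0,336),(1,0,733)],[]),(62,2,85,1,[(2,0,732),(1,0,731)],[]),(13,9,85,1,[(1,0,93),(1,0,735)],[]),(62,7,77,1,[(2,0,732),(1,0,116)],[]),(9,9,77,1,[(2,0,94),(1,0,737)],[]),(438,9,184,1,[(1,0,722)],[]),(184,0,440,1,[(2,0,739),(1,0,653)],[]),(239,9,440,1,[(2,0,648),(1,0,740)],[]),(184,2,165,1,[(2,0,739),(1,0,650)],[]),(184,3,183,1,[(2,0,739),(2,0,646)],[]),(173,9,183,1,[(2,0,273),(1,0,743)],[]),(455,9,34,1,[(2,0,724)],[]),(34,3,462,1,[(2,0,745),(2,0,702)],[]),(3,9,462,1,[(2,0,54),(1,0,746)],[]),(205,9,38,1,[(1,0,727)],[]),(38,7,462,1,[(2,0,748),(2,0,700)],[]),(39,9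,462,1,[(2,0,60),(1,0,749)],[]),(38,9,22,1,[(2,0,748),(2,0,729)],[]),(22,4,207,1,[(2,0,751),(2,0,311)],[]),(162,9,207,1,[(2,0,239),(1,0,752)],[]),(338,9,220,1,[(2,0,734)],[]),(220,7,436,1,[(2,0,754),(1,0,641)],[]),(69,9,436,1,[(2,0,337),(1,0,755)],[]),(85,9,13,1,[(2,0,736)],[]),(13,5,337,1,[(2,0,757),(2,0,501)],[]),(67,9,337,1,[(2,0,102),(1,0,758)],[]),(13,7,84,1,[(2,0,757),(2,0,126)],[]),(1,9,84,1,[(2,0,17),(1,0,760)],[]),(77,9,9,1,[(2,0,738)],[]),(9,3,78,1,[(2,0,762),(1,0,117)],[]),(72,9,78,1,[(1,0,110),(1,0,763)],[]),(440,9,239,1,[(2,0,741)],[]),(239,3,238,1,[(2,0,765),(1,0,656)],[]),(231,9,238,1,[(2,0,365),(1,0,766)],[]),(239,7,71,1,[(2,0,765),(1,0,654)],[]),(238,9,71,1,[(1,0,364),(1,0,768)],[]),(183,9,173,1,[(2,0,744)],[]),(173,7,184,1,[(2,0,770),(1,0,272)],[]),(32,9,184,1,[(2,0,259),(1,0,77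1)],[]),(462,9,3,1,[(2,0,747)],[]),(39,9,3,1,[(1,0,750),(1,0,773)],[]),(3,2,49,1,[(2,0,774),(2,0,710)],[]),(0,9,49,1,[(1,0,2),(1,0,775)],[]),(3,4,172,1,[(2,0,774),(2,0,253)],[]),(20,9,172,1,[(1,0,31),(1,0,777)],[]),(207,9,162,1,[(2,0,753)],[]),(162,3,206,1,[(2,0,779),(2,0,310)],[]),(196,9,206,1,[(1,0,293),(1,0,780)],[]),(436,9,69,1,[(2,0,756)],[]),(69,3,230,1,[(2,0,782),(1,0,642)],[]),(218,9,230,1,[(1,0,334),(1,0,783)],[]),(337,9,67,1,[(2,0,759)],[]),(67,7,336,1,[(2,0,785),(2,0,486)],[]),(12,9,336,1,[(2,0,103),(1,0,786)],[]),(84,9,1,1,[(2,0,761)],[]),(1,4,83,1,[(2,0,788),(2,0,125)],[]),(11,9,83,1,[(1,0,13),(1,0,789)],[]),(78,9,72,1,[(2,0,764)],[]),(72,4,232,1,[(2,0,791),(1,0,356)],[]),(224,9,232,1,[(1,0,342),(1,0,792)],[]),(238,9,231,1,[(2,0,767)],[]),(231,4,237,1,[(2,0,794),(2,0,363)],[]),(231,9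,71,1,[(2,0,794),(1,0,769)],[]),(71,4,237,1,[(2,0,796),(1,0,795)],[]),(439,9,237,1,[(1,0,652),(1,0,797)],[]),(184,9,32,1,[(2,0,772)],[]),(32,2,165,1,[(2,0,799),(1,0,742)],[]),(4,9,165,1,[(1,0,51),(1,0,800)],[]),(49,9,0,1,[(2,0,776)],[]),(0,4,48,1,[(2,0,802),(2,0,72)],[]),(5,9,48,1,[(2,0,4),(1,0,803)],[]),(172,9,20,1,[(2,0,778)],[]),(20,3,171,1,[(2,0,805),(2,0,252)],[]),(164,9,171,1,[(2,0,242),(1,0,806)],[]),(206,9,196,1,[(2,0,781)],[]),(196,7,422,1,[(2,0,808),(2,0,623)],[]),(195,9,422,1,[(1,0,292),(1,0,809)],[]),(230,9,218,1,[(2,0,784)],[]),(218,4,419,1,[(2,0,811),(2,0,681)],[]),(322,9,419,1,[(1,0,449),(1,0,812)],[]),(336,9,12,1,[(2,0,787)],[]),(12,4,335,1,[(2,0,814),(2,0,485)],[]),(79,9,335,1,[(2,0,119),(1,0,815)],[]),(83,9,11,1,[(2,0,790)],[]),(11,1,431,1,[(2,0,817),(2,0,629)],[]),(56,9,431,1,[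(2,0,82),(1,0,818)],[]),(11,3,82,1,[(2,0,817),(2,0,124)],[]),(73,9,82,1,[(2,0,111),(1,0,820)],[]),(11,5,408,1,[(2,0,817),(1,0,590)],[]),(45,9,408,1,[(2,0,68),(1,0,822)],[]),(232,9,224,1,[(2,0,793)],[]),(224,2,417,1,[(2,0,824),(1,0,679)],[]),(439,9,417,1,[(2,0,655),(1,0,825)],[]),(439,9,237,1,[(1,0,798)],[]),(165,9,4,1,[(2,0,801)],[]),(4,4,211,1,[(2,0,828),(2,0,316)],[]),(37,9,211,1,[(1,0,58),(1,0,829)],[]),(48,9,5,1,[(2,0,804)],[]),(5,3,47,1,[(2,0,831),(2,0,71)],[]),(35,9,47,1,[(2,0,55),(1,0,832)],[]),(171,9,164,1,[(2,0,807)],[]),(164,7,421,1,[(2,0,834),(1,0,693)],[]),(420,9,421,1,[(1,0,604),(1,0,835)],[]),(422,9,195,1,[(2,0,810)],[]),(195,4,190,1,[(2,0,837),(1,0,607)],[]),(194,9,190,1,[(1,0,291),(1,0,838)],[]),(419,9,322,1,[(2,0,813)],[]),(322,7,228,1,[(2,0,840),(1,0,682)],[]),(335,9,79,1,[(2,0,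816)],[]),(79,3,334,1,[(2,0,842),(2,0,484)],[]),(333,9,334,1,[(2,0,482),(1,0,843)],[]),(431,9,56,1,[(2,0,819)],[]),(56,3,187,1,[(2,0,845),(2,0,624)],[]),(323,9,187,1,[(1,0,454),(1,0,846)],[]),(56,4,434,1,[(2,0,845),(1,0,636)],[]),(31,9,434,1,[(2,0,83),(1,0,848)],[]),(56,5,186,1,[(2,0,845),(1,0,625)],[]),(46,9,186,1,[(1,0,139),(1,0,850)],[]),(82,9,73,1,[(2,0,821)],[]),(73,0,414,1,[(2,0,852),(1,0,601)],[]),(35,9,414,1,[(2,0,131),(1,0,853)],[]),(73,4,334,1,[(2,0,852),(1,0,591)],[]),(74,9,334,1,[(2,0,112),(1,0,855)],[]),(73,8,81,1,[(2,0,852),(2,0,123)],[]),(325,9,81,1,[(1,0,458),(1,0,857)],[]),(408,9,45,1,[(2,0,823)],[]),(45,8,94,1,[(2,0,859),(1,0,582)],[]),(213,9,94,1,[(1,0,460),(1,0,860)],[]),(417,9,237,1,[(2,0,826),(1,0,827)],[]),(237,3,416,1,[(2,0,862),(2,0,598)],[]),(236,9,416,1,[(1,0,362),(1,0,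863)],[]),(211,9,37,1,[(2,0,830)],[]),(37,3,210,1,[(2,0,865),(2,0,315)],[]),(36,9,210,1,[(1,0,57),(1,0,866)],[]),(47,9,35,1,[(2,0,833)],[]),(35,0,415,1,[(2,0,868),(2,0,631)],[]),(73,9,415,1,[(1,0,131),(1,0,869)],[]),(421,9,420,1,[(2,0,836)],[]),(420,4,446,1,[(2,0,871),(1,0,673)],[]),(430,9,446,1,[(1,0,621),(1,0,872)],[]),(194,9,190,1,[(1,0,839)],[]),(190,1,233,1,[(2,0,874),(2,0,490)],[]),(410,9,233,1,[(2,0,622),(1,0,875)],[]),(190,3,193,1,[(2,0,874),(2,0,290)],[]),(191,9,193,1,[(2,0,286),(1,0,877)],[]),(334,9,333,1,[(2,0,844)],[]),(323,9,187,1,[(1,0,847)],[]),(187,0,435,1,[(2,0,880),(2,0,639)],[]),(213,9,435,1,[(2,0,325),(1,0,881)],[]),(187,3,56,1,[(2,0,880),(1,0,454)],[]),(434,9,31,1,[(2,0,849)],[]),(31,8,442,1,[(2,0,884),(1,0,663)],[]),(59,9,442,1,[(1,0,88),(1,0,885)],[]),(186,9,46,1,[(2,0,851)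],[]),(46,0,325,1,[(2,0,887),(2,0,466)],[]),(104,9,325,1,[(1,0,297),(1,0,888)],[]),(46,4,212,1,[(2,0,887),(1,0,318)],[]),(201,9,212,1,[(1,0,468),(1,0,890)],[]),(46,7,433,1,[(2,0,887),(2,0,628)],[]),(209,9,433,1,[(1,0,470),(1,0,892)],[]),(46,8,35,1,[(2,0,887),(1,0,279)],[]),(414,9,35,1,[(2,0,854)],[]),(35,1,415,1,[(2,0,895),(1,0,596)],[]),(94,9,415,1,[(1,0,226),(1,0,896)],[]),(35,5,407,1,[(2,0,895),(2,0,595)],[]),(185,9,407,1,[(1,0,277),(1,0,898)],[]),(35,8,103,1,[(2,0,895),(1,0,637)],[]),(46,9,103,1,[(1,0,894),(1,0,900)],[]),(333,9,74,1,[(2,0,879),(2,0,856)],[]),(74,0,199,1,[(2,0,902),(1,0,488)],[]),(36,9,199,1,[(1,0,274),(1,0,903)],[]),(74,3,79,1,[(2,0,902),(2,0,482)],[]),(75,9,79,1,[(2,0,113),(1,0,905)],[]),(325,9,81,1,[(1,0,858)],[]),(213,9,94,1,[(1,0,861)],[]),(94,0,187,1,[(2,0,908),(2,0,325)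],[]),(406,9,187,1,[(2,0,577),(1,0,909)],[]),(416,9,236,1,[(2,0,864)],[]),(236,1,216,1,[(2,0,911),(2,0,632)],[]),(428,9,216,1,[(1,0,617),(1,0,912)],[]),(210,9,36,1,[(2,0,867)],[]),(36,8,209,1,[(2,0,914),(2,0,314)],[]),(212,9,209,1,[(2,0,618),(1,0,915)],[]),(415,9,73,1,[(2,0,870)],[]),(446,9,430,1,[(2,0,873)],[]),(430,3,441,1,[(2,0,918),(2,0,665)],[]),(429,9,441,1,[(1,0,620),(1,0,919)],[]),(410,9,233,1,[(1,0,876)],[]),(233,3,411,1,[(2,0,921),(1,0,585)],[]),(68,9,411,1,[(2,0,452),(1,0,922)],[]),(193,9,191,1,[(2,0,878)],[]),(191,8,57,1,[(2,0,924),(2,0,289)],[]),(444,9,57,1,[(1,0,662),(1,0,925)],[]),(435,9,94,1,[(2,0,882),(1,0,908)],[]),(94,1,406,1,[(2,0,927),(1,0,640)],[]),(35,9,406,1,[(2,0,226),(1,0,928)],[]),(442,9,59,1,[(2,0,886)],[]),(59,4,185,1,[(2,0,930),(2,0,659)],[]),(104,9,81,1,[(1,0,889),(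1,0,907)],[]),(81,1,103,1,[(2,0,932),(2,0,166)],[]),(43,9,103,1,[(1,0,122),(1,0,933)],[]),(212,9,201,1,[(2,0,891)],[]),(201,5,445,1,[(2,0,935),(1,0,664)],[]),(330,9,445,1,[(2,0,491),(1,0,936)],[]),(433,9,209,1,[(2,0,893)],[]),(209,4,447,1,[(2,0,938),(2,0,671)],[]),(94,9,73,1,[(1,0,897),(1,0,917)],[]),(73,7,411,1,[(2,0,940),(2,0,586)],[]),(328,9,411,1,[(1,0,464),(1,0,941)],[]),(407,9,185,1,[(2,0,899)],[]),(185,4,87,1,[(2,0,943),(2,0,587)],[]),(59,9,87,1,[(1,0,931),(1,0,944)],[]),(103,9,46,1,[(2,0,901)],[]),(199,9,36,1,[(2,0,904)],[]),(36,3,41,1,[(2,0,947),(2,0,299)],[]),(37,9,41,1,[(2,0,57),(1,0,948)],[]),(79,9,75,1,[(2,0,906)],[]),(75,1,330,1,[(2,0,950),(1,0,477)],[]),(228,9,330,1,[(2,0,349),(1,0,951)],[]),(75,4,12,1,[(2,0,950),(2,0,119)],[]),(10,9,12,1,[(2,0,114),(1,0,953)],[]),(406,9,187,1,[(1,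0,910)],[]),(428,9,216,1,[(1,0,913)],[]),(216,3,445,1,[(2,0,956),(2,0,670)],[]),(217,9,445,1,[(2,0,324),(1,0,957)],[]),(209,9,201,1,[(2,0,916),(1,0,935)],[]),(201,4,447,1,[(2,0,959),(1,0,939)],[]),(46,9,447,1,[(2,0,468),(1,0,960)],[]),(201,5,324,1,[(2,0,959),(1,0,469)],[]),(330,9,324,1,[(2,0,491),(1,0,962)],[]),(441,9,429,1,[(2,0,920)],[]),(429,8,449,1,[(2,0,964),(2,0,669)],[]),(331,9,449,1,[(1,0,619),(1,0,965)],[]),(411,9,68,1,[(2,0,923)],[]),(444,9,57,1,[(1,0,926)],[]),(57,4,449,1,[(2,0,968),(2,0,672)],[]),(330,9,449,1,[(1,0,478),(1,0,969)],[]),(57,8,191,1,[(2,0,968),(1,0,662)],[]),(187,9,35,1,[(2,0,955),(2,0,929)],[]),(35,3,56,1,[(2,0,972),(1,0,883)],[]),(5,9,56,1,[(1,0,55),(1,0,973)],[]),(46,9,43,1,[(2,0,946),(2,0,934)],[]),(43,8,35,1,[(2,0,975),(1,0,894)],[]),(445,9,330,1,[(2,0,937)],[]),(32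8,9,68,1,[(1,0,942),(1,0,967)],[]),(68,0,191,1,[(2,0,978),(1,0,467)],[]),(28,9,191,1,[(2,0,137),(1,0,979)],[]),(87,9,59,1,[(2,0,945)],[]),(59,8,29,1,[(2,0,981),(1,0,142)],[]),(31,9,29,1,[(2,0,88),(1,0,982)],[]),(41,9,37,1,[(2,0,949)],[]),(37,4,6,1,[(2,0,984),(2,0,63)],[]),(4,9,6,1,[(2,0,58),(1,0,985)],[]),(330,9,228,1,[(2,0,952)],[]),(228,4,57,1,[(2,0,987),(1,0,478)],[]),(55,9,57,1,[(2,0,350),(1,0,988)],[]),(228,7,437,1,[(2,0,987),(2,0,645)],[]),(322,9,437,1,[(1,0,841),(1,0,990)],[]),(12,9,10,1,[(2,0,954)],[]),(10,3,63,1,[(2,0,992),(1,0,95)],[]),(1,9,63,1,[(2,0,11),(1,0,993)],[]),(445,9,228,1,[(1,0,977),(1,0,987)],[]),(228,9,217,1,[(2,0,995),(2,0,958)],[]),(217,4,55,1,[(2,0,996),(1,0,350)],[]),(54,9,55,1,[(2,0,634),(1,0,997)],[]),(217,7,322,1,[(2,0,996),(2,0,841)],[]),(447,9,43,1,[(2,0,961),(1,0,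975)],[]),(43,8,448,1,[(2,0,1000),(1,0,667)],[]),(35,9,448,1,[(2,0,976),(1,0,1001)],[]),(330,9,217,1,[(1,0,987),(1,0,996)],[]),(324,9,217,1,[(2,0,963),(1,0,1003)],[]),(217,7,56,1,[(2,0,1004),(1,0,456)],[]),(322,9,56,1,[(2,0,999),(1,0,1005)],[]),(449,9,331,1,[(2,0,966)],[]),(331,7,448,1,[(2,0,1007),(2,0,668)],[]),(57,9,448,1,[(2,0,480),(1,0,1008)],[]),(331,9,217,1,[(2,0,1007),(2,0,970),(1,0,1003)],[]),(217,4,437,1,[(2,0,1010),(1,0,643)],[]),(54,9,437,1,[(2,0,634),(1,0,1011)],[]),(56,9,5,1,[(2,0,974)],[]),(5,4,31,1,[(2,0,1013),(1,0,83)],[]),(0,9,31,1,[(1,0,4),(1,0,1014)],[]),(191,9,28,1,[(2,0,980)],[]),(28,8,57,1,[(2,0,1016),(2,0,971)],[]),(6,9,57,1,[(2,0,46),(1,0,1017)],[]),(31,9,29,1,[(1,0,983)],[]),(29,1,1,1,[(2,0,1019),(1,0,50)],[]),(6,9,4,1,[(2,0,986)],[]),(57,9,55,1,[(2,0,989)],[]),(55,3,229,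1,[(2,0,1022),(1,0,451)],[]),(437,9,322,1,[(2,0,991)],[]),(63,9,1,1,[(2,0,994)],[]),(1,1,229,1,[(2,0,1025),(1,0,351)],[]),(29,9,229,1,[(1,0,1020),(1,0,1026)],[]),(55,9,54,1,[(2,0,998)],[]),(54,3,229,1,[(2,0,1028),(1,0,1023)],[]),(53,9,229,1,[(1,0,78),(1,0,1029)],[]),(448,9,35,1,[(2,0,1002)],[]),(322,9,5,1,[(1,0,1006),(1,0,1013)],[]),(57,9,54,1,[(1,0,1022),(1,0,1028)],[]),(54,9,35,1,[(2,0,1033),(1,0,1009),(1,0,1031)],[]),(35,3,53,1,[(2,0,1034),(2,0,78)],[]),(5,9,53,1,[(1,0,55),(1,0,1035)],[]),(437,9,5,1,[(1,0,1024),(1,0,1032)],[]),(35,9,5,1,[(2,0,1034),(1,0,1012),(1,0,1037)],[]),(54,9,5,1,[(1,0,1034),(1,0,1038)],[]),(57,9,5,1,[(1,0,1033),(1,0,1039)],[]),(29,9,0,1,[(2,0,1019),(2,0,1015)],[]),(5,9,4,1,[(2,0,1040),(2,0,1018),(1,0,1021)],[]),(229,9,0,1,[(2,0,1027),(1,0,1041)],[]),(53,9,0,1,[(1,0,1030),(1,0,1043)],[]),(4,9,0,1,[(2,0,1042),(1,0,1036),(1,0,1044)],[]),(0,3,0,1,[(2,0,1045),(2,0,3)],[]),(0,3,0,1,[(2,0,1046)],[])])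

def patch1 : Patch := ([(0,0),(0,1),(0,2),(0,4),(0,5),(0,7),(0,8),(3,0),(4,0),(6,0),(5,1),(6,1),(7,1),(5,2),(6,2),(7,2),(6,5),(7,5),(3,1),(3,3),(5,4),(21,5),(22,4),(7,7),(24,8),(25,7),(24,3),(27,5),(28,4),(29,3),(30,1),(31,2),(32,3),(33,8),(34,7),(35,3),(36,5),(37,4),(38,3),(39,1),(40,2),(41,3),(42,8),(43,7),(44,3),(45,5),(46,4),(47,3),(48,1),(49,2),(50,3),(51,8),(52,7),(53,3),(54,5),(55,4),(56,3),(57,1),(58,2),(59,3),(60,8),(61,7),(62,3),(63,5),(64,4),(65,3),(66,1),(67,2),(68,3),(69,8),(70,7),(71,3),(72,5),(73,4),(74,3),(75,1),(76,2),(77,3),(78,8),(79,7),(80,3),(81,5),(82,4),(83,3),(84,1),(85,2),(86,3),(87,8),(88,7),(89,3),(90,5),(91,4),(92,3),(93,1),(94,2),(95,3),(96,8),(97,7),(98,3),(99,5),(100,4),(101,3),(102,1),(103,2),(104,3),(105,8),(106,7),(107,3),(108,5),(109,4),(10,2),(10,4),(8,3),(23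,1),(114,8),(115,3),(116,4),(117,7),(12,5),(13,5),(12,6),(13,7),(121,5),(123,4),(124,3),(125,2),(126,1),(127,7),(128,6),(129,5),(130,4),(131,3),(132,2),(133,1),(134,7),(135,6),(136,5),(137,4),(138,3),(139,2),(140,1),(141,7),(142,6),(143,5),(144,4),(145,3),(146,2),(147,1),(148,7),(149,6),(150,5),(151,4),(152,3),(153,2),(154,1),(155,7),(156,6),(157,5),(158,4),(159,3),(160,2),(161,1),(162,7),(163,6),(164,5),(165,4),(166,3),(167,2),(168,1),(169,7),(170,6),(171,5),(172,4),(173,3),(174,2),(175,1),(176,7),(177,6),(178,5),(122,3),(180,5),(181,4),(182,3),(15,5),(16,5),(16,7),(186,8),(187,7),(18,7),(189,8),(190,7),(111,4),(117,3),(120,4),(194,7),(120,7),(196,8),(197,7),(196,3),(199,5),(185,7),(201,8),(202,7)],[(0,0,1,0,[],[]),(0,1,2,0,[],[]),(0,2,3,0,[],[]),(0,4,4,0,[],[]),(0,5,5,0,[],[]),(0,7,6,0,[],[]),(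0,8,7,0,[],[]),(3,0,8,0,[],[]),(8,2,1,4,[(1,0,2),(1,0,7)],[(1,0,0)]),(1,3,1,5,[(0,3,0),(1,0,0)],[(1,0,0)]),(4,0,9,0,[],[]),(9,4,1,6,[(1,0,3),(1,0,10)],[(1,0,0)]),(6,0,10,0,[],[]),(10,7,1,9,[(1,0,5),(1,0,12)],[(1,0,0)]),(5,1,11,0,[],[]),(11,5,2,15,[(1,0,4),(1,0,14)],[(1,0,1)]),(6,1,12,0,[],[]),(12,7,2,17,[(1,0,5),(1,0,16)],[(1,0,1)]),(7,1,13,0,[],[]),(13,8,2,18,[(1,0,6),(1,0,18)],[(1,0,1)]),(5,2,14,0,[],[]),(14,5,3,22,[(1,0,4),(1,0,20)],[(1,0,2)]),(6,2,15,0,[],[]),(15,7,3,24,[(1,0,5),(1,0,22)],[(1,0,2)]),(7,2,16,0,[],[]),(16,8,3,25,[(1,0,6),(1,0,24)],[(1,0,2)]),(7,3,7,31,[(1,0,6)],[(0,3,0),(1,0,6)]),(6,5,17,0,[],[]),(17,7,5,39,[(1,0,5),(1,0,27)],[(1,0,4)]),(7,5,18,0,[],[]),(18,8,5,40,[(1,0,6),(1,0,29)],[(1,0,4)]),(3,1,19,0,[],[]),(3,3,20,0,[],[]),(20,2,20,20,[(0,3,0),(1,0,2),(1,0,32)],[(1,0,2),(1,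0,32)]),(5,4,21,0,[],[]),(21,5,22,0,[],[]),(22,4,23,0,[],[]),(23,5,4,33,[(1,0,4),(1,0,34),(1,0,35),(1,0,36)],[(1,0,3)]),(7,7,24,0,[],[]),(24,8,25,0,[],[]),(25,7,26,0,[],[]),(26,8,6,45,[(1,0,6),(1,0,38),(1,0,39),(1,0,40)],[(1,0,5)]),(24,3,27,0,[],[]),(27,5,28,0,[],[]),(28,4,29,0,[],[]),(29,3,30,0,[],[]),(30,1,31,0,[],[]),(31,2,32,0,[],[]),(32,3,33,0,[],[]),(33,8,34,0,[],[]),(34,7,35,0,[],[]),(35,3,36,0,[],[]),(36,5,37,0,[],[]),(37,4,38,0,[],[]),(38,3,39,0,[],[]),(39,1,40,0,[],[]),(40,2,41,0,[],[]),(41,3,42,0,[],[]),(42,8,43,0,[],[]),(43,7,44,0,[],[]),(44,3,45,0,[],[]),(45,5,46,0,[],[]),(46,4,47,0,[],[]),(47,3,48,0,[],[]),(48,1,49,0,[],[]),(49,2,50,0,[],[]),(50,3,51,0,[],[]),(51,8,52,0,[],[]),(52,7,53,0,[],[]),(53,3,54,0,[],[]),(54,5,55,0,[],[]),(55,4,56,0,[],[]),(56,3,57,0,[],[]),(57,1,58,0,[],[])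,(58,2,59,0,[],[]),(59,3,60,0,[],[]),(60,8,61,0,[],[]),(61,7,62,0,[],[]),(62,3,63,0,[],[]),(63,5,64,0,[],[]),(64,4,65,0,[],[]),(65,3,66,0,[],[]),(66,1,67,0,[],[]),(67,2,68,0,[],[]),(68,3,69,0,[],[]),(69,8,70,0,[],[]),(70,7,71,0,[],[]),(71,3,72,0,[],[]),(72,5,73,0,[],[]),(73,4,74,0,[],[]),(74,3,75,0,[],[]),(75,1,76,0,[],[]),(76,2,77,0,[],[]),(77,3,78,0,[],[]),(78,8,79,0,[],[]),(79,7,80,0,[],[]),(80,3,81,0,[],[]),(81,5,82,0,[],[]),(82,4,83,0,[],[]),(83,3,84,0,[],[]),(84,1,85,0,[],[]),(85,2,86,0,[],[]),(86,3,87,0,[],[]),(87,8,88,0,[],[]),(88,7,89,0,[],[]),(89,3,90,0,[],[]),(90,5,91,0,[],[]),(91,4,92,0,[],[]),(92,3,93,0,[],[]),(93,1,94,0,[],[]),(94,2,95,0,[],[]),(95,3,96,0,[],[]),(96,8,97,0,[],[]),(97,7,98,0,[],[]),(98,3,99,0,[],[]),(99,5,100,0,[],[]),(100,4,101,0,[],[]),(101,3,102,0,[],[]),(102,1,10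3,0,[],[]),(103,2,104,0,[],[]),(104,3,105,0,[],[]),(105,8,106,0,[],[]),(106,7,107,0,[],[]),(107,3,108,0,[],[]),(108,5,109,0,[],[]),(109,4,110,0,[],[]),(110,3,19,47,[(1,0,6),(1,0,38),(1,0,42),(1,0,43),(1,0,44),(1,0,45),(1,0,46),(1,0,47),(1,0,48),(1,0,49),(1,0,50),(1,0,51),(1,0,52),(1,0,53),(1,0,54),(1,0,55),(1,0,56),(1,0,57),(1,0,58),(1,0,59),(1,0,60),(1,0,61),(1,0,62),(1,0,63),(1,0,64),(1,0,65),(1,0,66),(1,0,67),(1,0,68),(1,0,69),(1,0,70),(1,0,71),(1,0,72),(1,0,73),(1,0,74),(1,0,75),(1,0,76),(1,0,77),(1,0,78),(1,0,79),(1,0,80),(1,0,81),(1,0,82),(1,0,83),(1,0,84),(1,0,85),(1,0,86),(1,0,87),(1,0,88),(1,0,89),(1,0,90),(1,0,91),(1,0,92),(1,0,93),(1,0,94),(1,0,95),(1,0,96),(1,0,97),(1,0,98),(1,0,99),(1,0,100),(1,0,101),(1,0,102),(1,0,103),(1,0,104),(1,0,105),(1,0,106),(1,0,107),(1,0,108),(1,0,109),(1,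0,110),(1,0,111),(1,0,112),(1,0,113),(1,0,114),(1,0,115),(1,0,116),(1,0,117),(1,0,118),(1,0,119),(1,0,120),(1,0,121),(1,0,122),(1,0,123),(1,0,124),(1,0,125)],[(0,3,0),(1,0,2),(1,0,31)]),(20,1,110,13,[(1,0,32)],[(1,0,31),(2,0,126)]),(13,3,13,13,[(2,0,26),(1,0,18)],[(1,0,18)]),(10,2,111,0,[],[]),(111,7,8,24,[(2,0,13),(1,0,129)],[(2,0,8)]),(10,4,112,0,[],[]),(112,7,9,35,[(2,0,13),(1,0,131)],[(2,0,11)]),(8,3,113,0,[],[]),(113,2,113,20,[(2,0,9),(2,0,8),(1,0,133)],[(2,0,8),(1,0,133)]),(23,1,114,0,[],[]),(114,8,115,0,[],[]),(115,3,116,0,[],[]),(116,4,117,0,[],[]),(117,7,118,0,[],[]),(118,3,111,50,[(2,0,0),(1,0,3),(2,0,37),(1,0,135),(1,0,136),(1,0,137),(1,0,138),(1,0,139)],[(2,0,13),(1,0,129)]),(113,0,20,5,[(1,0,133)],[(2,0,7),(1,0,32)]),(12,5,119,0,[],[]),(119,7,11,39,[(2,0,17),(1,0,142)],[(2,0,15)]),(1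3,5,120,0,[],[]),(120,8,11,40,[(2,0,19),(1,0,144)],[(2,0,15)]),(12,6,121,0,[],[]),(13,7,122,0,[],[]),(121,5,123,0,[],[]),(123,4,124,0,[],[]),(124,3,125,0,[],[]),(125,2,126,0,[],[]),(126,1,127,0,[],[]),(127,7,128,0,[],[]),(128,6,129,0,[],[]),(129,5,130,0,[],[]),(130,4,131,0,[],[]),(131,3,132,0,[],[]),(132,2,133,0,[],[]),(133,1,134,0,[],[]),(134,7,135,0,[],[]),(135,6,136,0,[],[]),(136,5,137,0,[],[]),(137,4,138,0,[],[]),(138,3,139,0,[],[]),(139,2,140,0,[],[]),(140,1,141,0,[],[]),(141,7,142,0,[],[]),(142,6,143,0,[],[]),(143,5,144,0,[],[]),(144,4,145,0,[],[]),(145,3,146,0,[],[]),(146,2,147,0,[],[]),(147,1,148,0,[],[]),(148,7,149,0,[],[]),(149,6,150,0,[],[]),(150,5,151,0,[],[]),(151,4,152,0,[],[]),(152,3,153,0,[],[]),(153,2,154,0,[],[]),(154,1,155,0,[],[]),(155,7,156,0,[],[]),(156,6,157,0,[],[]),(157,5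,158,0,[],[]),(158,4,159,0,[],[]),(159,3,160,0,[],[]),(160,2,161,0,[],[]),(161,1,162,0,[],[]),(162,7,163,0,[],[]),(163,6,164,0,[],[]),(164,5,165,0,[],[]),(165,4,166,0,[],[]),(166,3,167,0,[],[]),(167,2,168,0,[],[]),(168,1,169,0,[],[]),(169,7,170,0,[],[]),(170,6,171,0,[],[]),(171,5,172,0,[],[]),(172,4,173,0,[],[]),(173,3,174,0,[],[]),(174,2,175,0,[],[]),(175,1,176,0,[],[]),(176,7,177,0,[],[]),(177,6,178,0,[],[]),(178,5,179,0,[],[]),(179,4,20,49,[(2,0,17),(1,0,146),(1,0,148),(1,0,149),(1,0,150),(1,0,151),(1,0,152),(1,0,153),(1,0,154),(1,0,155),(1,0,156),(1,0,157),(1,0,158),(1,0,159),(1,0,160),(1,0,161),(1,0,162),(1,0,163),(1,0,164),(1,0,165),(1,0,166),(1,0,167),(1,0,168),(1,0,169),(1,0,170),(1,0,171),(1,0,172),(1,0,173),(1,0,174),(1,0,175),(1,0,176),(1,0,177),(1,0,178),(1,0,179),(1,0,180),(1,0,181),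(1,0,182),(1,0,183),(1,0,184),(1,0,185),(1,0,186),(1,0,187),(1,0,188),(1,0,189),(1,0,190),(1,0,191),(1,0,192),(1,0,193),(1,0,194),(1,0,195),(1,0,196),(1,0,197),(1,0,198),(1,0,199),(1,0,200),(1,0,201),(1,0,202),(1,0,203),(1,0,204)],[(2,0,1),(1,0,2),(1,0,32)]),(122,3,180,0,[],[]),(180,5,181,0,[],[]),(181,4,182,0,[],[]),(182,3,183,0,[],[]),(119,1,17,15,[(1,0,142)],[(2,0,16),(1,0,27)]),(120,3,120,28,[(1,0,144)],[(2,0,128),(1,0,144)]),(15,5,184,0,[],[]),(184,7,14,39,[(2,0,23),(1,0,212)],[(2,0,21)]),(16,5,185,0,[],[]),(185,8,14,40,[(2,0,25),(1,0,214)],[(2,0,21)]),(16,7,186,0,[],[]),(186,8,187,0,[],[]),(187,7,188,0,[],[]),(188,8,15,45,[(2,0,25),(1,0,216),(1,0,217),(1,0,218)],[(2,0,23)]),(179,1,109,14,[(2,0,205)],[(1,0,127),(2,0,125)]),(179,2,179,21,[(2,0,205)],[(2,0,33),(2,0,205)]),(184,2,17,22,[(1,0,21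2)],[(2,0,22),(1,0,27)]),(18,7,189,0,[],[]),(189,8,190,0,[],[]),(190,7,191,0,[],[]),(191,8,17,45,[(2,0,30),(1,0,223),(1,0,224),(1,0,225)],[(2,0,28)]),(191,5,26,40,[(2,0,226)],[(2,0,27),(2,0,41)]),(25,5,190,39,[(2,0,40)],[(2,0,227),(2,0,225)]),(111,4,192,0,[],[]),(117,3,193,0,[],[]),(193,7,113,30,[(2,0,130),(2,0,140),(2,0,139),(1,0,230)],[(1,0,133)]),(192,2,112,21,[(1,0,229)],[(2,0,129),(1,0,131)]),(193,2,193,24,[(2,0,231)],[(2,0,134),(2,0,231)]),(120,4,194,0,[],[]),(194,7,195,0,[],[]),(195,3,192,50,[(2,0,10),(2,0,3),(1,0,4),(1,0,14),(2,0,145),(2,0,211),(1,0,234),(1,0,235)],[(2,0,132),(2,0,232)]),(120,7,196,0,[],[]),(196,8,197,0,[],[]),(197,7,198,0,[],[]),(198,8,119,45,[(2,0,145),(1,0,237),(1,0,238),(1,0,239)],[(2,0,143)]),(196,3,199,0,[],[]),(199,5,200,0,[],[]),(198,1,191,18,[(2,0,240)],[(1,0,210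),(2,0,226)]),(196,4,195,35,[(1,0,237)],[(1,0,234),(1,0,235)]),(196,5,122,39,[(1,0,237)],[(2,0,144),(1,0,147)]),(200,9,180,28,[(2,0,245),(1,0,241),(1,0,242)],[(1,0,206)]),(200,9,180,1,[(1,0,246)],[]),(180,5,199,1,[(2,0,247),(2,0,242)],[]),(181,9,199,1,[(2,0,207),(1,0,248)],[]),(199,9,181,1,[(2,0,249)],[]),(181,3,196,1,[(2,0,250),(2,0,241)],[]),(185,7,201,0,[],[]),(201,8,202,0,[],[]),(202,7,203,0,[],[]),(203,8,184,45,[(2,0,215),(1,0,252),(1,0,253),(1,0,254)],[(2,0,213)]),(203,2,191,25,[(2,0,255)],[(1,0,222),(2,0,226)]),(203,5,188,40,[(2,0,255)],[(2,0,212),(2,0,219)]),(187,5,202,39,[(2,0,218)],[(2,0,257),(2,0,254)]),(183,9,111,27,[(1,0,229),(2,0,236),(2,0,244),(2,0,251),(1,0,208),(1,0,209)],[]),(183,9,111,1,[(1,0,259)],[]),(111,3,182,1,[(2,0,260),(2,0,209)],[]),(118,9,182,1,[(1,0,140),(1,0,261)],[]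),(182,9,118,1,[(2,0,262)],[]),(118,4,181,1,[(2,0,263),(2,0,208)],[]),(190,1,197,17,[(2,0,225)],[(2,0,243),(2,0,239)]),(190,2,202,24,[(2,0,225)],[(2,0,256),(2,0,254)]),(178,1,108,15,[(2,0,204)],[(1,0,220),(2,0,124)]),(178,2,178,22,[(2,0,204)],[(2,0,221),(2,0,204)]),(108,9,197,50,[(1,0,141),(2,0,205),(2,0,204),(1,0,267)],[(2,0,231),(2,0,233),(2,0,230),(1,0,139),(1,0,264),(1,0,251),(1,0,238)]),(197,9,108,1,[(2,0,269)],[]),(108,1,190,1,[(2,0,270),(2,0,265)],[]),(178,9,190,1,[(1,0,267),(1,0,271)],[]),(190,9,178,1,[(2,0,272)],[]),(178,2,202,1,[(2,0,273),(1,0,266)],[]),(178,9,202,1,[(1,0,268),(1,0,274)],[]),(178,5,25,1,[(2,0,273),(2,0,228)],[]),(179,9,25,1,[(2,0,204),(1,0,276)],[]),(202,9,178,1,[(2,0,275)],[]),(178,5,187,1,[(2,0,278),(2,0,258)],[]),(179,9,187,1,[(2,0,204),(1,0,279)],[]),(179,9,25,1,[(1,0,277)],[]),(187,9,25,1,[(2,0,280),(1,0,281)],[]),(25,7,188,1,[(2,0,282),(1,0,218)],[]),(26,9,188,1,[(2,0,40),(1,0,283)],[]),(188,9,26,1,[(2,0,284)],[]),(26,8,15,1,[(2,0,285),(1,0,219)],[]),(6,9,15,1,[(2,0,41),(1,0,286)],[]),(15,9,6,1,[(2,0,287)],[]),(6,7,3,1,[(2,0,288),(1,0,23)],[]),(0,9,3,1,[(1,0,5),(1,0,289)],[]),(3,9,0,1,[(2,0,290)],[]),(0,2,0,1,[(2,0,291),(2,0,2)],[]),(0,2,0,1,[(2,0,292)],[])])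

def patch2 : Patch := ([(0,0),(0,1),(0,4),(0,5),(0,7),(0,8),(3,0),(4,0),(5,0),(6,0),(3,1),(4,1),(5,1),(6,1),(5,4),(6,4),(5,5),(6,5),(2,0),(19,1),(20,0),(2,2),(4,4),(23,5),(24,4),(6,7),(7,5),(27,1),(26,3),(29,5),(30,4),(31,3),(32,1),(33,2),(34,3),(35,8),(36,7),(37,3),(38,5),(39,4),(40,3),(41,1),(42,2),(43,3),(44,8),(45,7),(46,3),(47,5),(48,4),(49,3),(50,1),(51,2),(52,3),(53,8),(54,7),(55,3),(56,5),(57,4),(58,3),(59,1),(60,2),(61,3),(62,8),(63,7),(64,3),(65,5),(66,4),(67,3),(68,1),(69,2),(70,3),(71,8),(72,7),(73,3),(74,5),(75,4),(76,3),(77,1),(78,2),(79,3),(80,8),(81,7),(82,3),(83,5),(84,4),(85,3),(86,1),(87,2),(88,3),(89,8),(90,7),(91,3),(92,5),(93,4),(94,3),(95,1),(96,2),(97,3),(98,8),(99,7),(100,3),(101,5),(102,4),(103,3),(104,1),(105,2),(106,3),(107,8),(108,7),(109,3),(7,1),(8,1),(9,1),(10,1)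,(9,4),(10,4),(9,5),(10,5),(7,3),(9,3),(10,7),(110,8),(122,3),(121,3),(124,5),(125,4),(126,3),(127,1),(128,2),(129,3),(130,8),(131,7),(132,3),(133,5),(134,4),(135,3),(136,1),(137,2),(138,3),(139,8),(140,7),(141,3),(142,5),(143,4),(144,3),(145,1),(146,2),(147,3),(148,8),(149,7),(150,3),(151,5),(152,4),(153,3),(154,1),(155,2),(156,3),(157,8),(158,7),(159,3),(160,5),(161,4),(162,3),(163,1),(164,2),(165,3),(166,8),(167,7),(168,3),(169,5),(170,4),(171,3),(172,1),(173,2),(174,3),(175,8),(176,7),(177,3),(178,5),(179,4),(180,3),(181,1),(182,2),(183,3),(184,8),(185,7),(186,3),(187,5),(188,4),(189,3),(190,1),(191,2),(192,3),(193,8),(194,7),(195,3),(196,5),(197,4),(198,3),(199,1),(200,2),(201,3),(202,8),(203,7),(204,3),(12,0),(12,2),(14,4),(13,5),(14,5),(12,4),(209,4),(212,3),(213,2),(15,5),(16,5),(15,3),(1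6,7),(218,8),(219,7),(112,8),(206,1),(115,5),(223,1),(115,1),(115,3),(226,7),(227,3),(116,7),(229,8),(230,7),(117,1),(215,1)],[(0,0,1,0,[],[]),(0,1,2,0,[],[]),(0,4,3,0,[],[]),(0,5,4,0,[],[]),(0,7,5,0,[],[]),(0,8,6,0,[],[]),(1,2,1,4,[(0,2,0),(1,0,0)],[(1,0,0)]),(1,3,1,5,[(0,3,0),(1,0,0)],[(1,0,0)]),(3,0,7,0,[],[]),(7,4,1,6,[(1,0,2),(1,0,8)],[(1,0,0)]),(4,0,8,0,[],[]),(8,5,1,7,[(1,0,3),(1,0,10)],[(1,0,0)]),(5,0,9,0,[],[]),(9,7,1,9,[(1,0,4),(1,0,12)],[(1,0,0)]),(6,0,10,0,[],[]),(10,8,1,10,[(1,0,5),(1,0,14)],[(1,0,0)]),(2,3,2,13,[(0,3,0),(1,0,1)],[(1,0,1)]),(3,1,11,0,[],[]),(11,4,2,14,[(1,0,2),(1,0,17)],[(1,0,1)]),(4,1,12,0,[],[]),(12,5,2,15,[(1,0,3),(1,0,19)],[(1,0,1)]),(5,1,13,0,[],[]),(13,7,2,17,[(1,0,4),(1,0,21)],[(1,0,1)]),(6,1,14,0,[],[]),(14,8,2,18,[(1,0,5),(1,0,23)],[(1,0,1)]),(3,2,3,21,[(1,0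,2)],[(0,2,0),(1,0,2)]),(5,2,5,24,[(1,0,4)],[(0,2,0),(1,0,4)]),(6,2,6,25,[(1,0,5)],[(0,2,0),(1,0,5)]),(4,3,4,28,[(1,0,3)],[(0,3,0),(1,0,3)]),(6,3,6,31,[(1,0,5)],[(0,3,0),(1,0,5)]),(5,4,15,0,[],[]),(15,7,3,35,[(1,0,4),(1,0,30)],[(1,0,2)]),(6,4,16,0,[],[]),(16,8,3,36,[(1,0,5),(1,0,32)],[(1,0,2)]),(5,5,17,0,[],[]),(17,7,4,39,[(1,0,4),(1,0,34)],[(1,0,3)]),(6,5,18,0,[],[]),(18,8,4,40,[(1,0,5),(1,0,36)],[(1,0,3)]),(2,0,19,0,[],[]),(19,1,20,0,[],[]),(20,0,21,0,[],[]),(21,1,1,3,[(1,0,1),(1,0,38),(1,0,39),(1,0,40)],[(1,0,0)]),(2,2,22,0,[],[]),(22,1,22,12,[(0,2,0),(1,0,1),(1,0,42)],[(1,0,1),(1,0,42)]),(4,4,23,0,[],[]),(23,5,24,0,[],[]),(24,4,25,0,[],[]),(25,5,3,33,[(1,0,3),(1,0,44),(1,0,45),(1,0,46)],[(1,0,2)]),(6,7,26,0,[],[]),(7,5,27,0,[],[]),(27,1,28,0,[],[]),(26,3,29,0,[],[]),(29,5,30,0,[],[]),(30,4,31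,0,[],[]),(31,3,32,0,[],[]),(32,1,33,0,[],[]),(33,2,34,0,[],[]),(34,3,35,0,[],[]),(35,8,36,0,[],[]),(36,7,37,0,[],[]),(37,3,38,0,[],[]),(38,5,39,0,[],[]),(39,4,40,0,[],[]),(40,3,41,0,[],[]),(41,1,42,0,[],[]),(42,2,43,0,[],[]),(43,3,44,0,[],[]),(44,8,45,0,[],[]),(45,7,46,0,[],[]),(46,3,47,0,[],[]),(47,5,48,0,[],[]),(48,4,49,0,[],[]),(49,3,50,0,[],[]),(50,1,51,0,[],[]),(51,2,52,0,[],[]),(52,3,53,0,[],[]),(53,8,54,0,[],[]),(54,7,55,0,[],[]),(55,3,56,0,[],[]),(56,5,57,0,[],[]),(57,4,58,0,[],[]),(58,3,59,0,[],[]),(59,1,60,0,[],[]),(60,2,61,0,[],[]),(61,3,62,0,[],[]),(62,8,63,0,[],[]),(63,7,64,0,[],[]),(64,3,65,0,[],[]),(65,5,66,0,[],[]),(66,4,67,0,[],[]),(67,3,68,0,[],[]),(68,1,69,0,[],[]),(69,2,70,0,[],[]),(70,3,71,0,[],[]),(71,8,72,0,[],[]),(72,7,73,0,[],[]),(73,3,74,0,[],[]),(74,5,75,0,[],[]),(75,4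,76,0,[],[]),(76,3,77,0,[],[]),(77,1,78,0,[],[]),(78,2,79,0,[],[]),(79,3,80,0,[],[]),(80,8,81,0,[],[]),(81,7,82,0,[],[]),(82,3,83,0,[],[]),(83,5,84,0,[],[]),(84,4,85,0,[],[]),(85,3,86,0,[],[]),(86,1,87,0,[],[]),(87,2,88,0,[],[]),(88,3,89,0,[],[]),(89,8,90,0,[],[]),(90,7,91,0,[],[]),(91,3,92,0,[],[]),(92,5,93,0,[],[]),(93,4,94,0,[],[]),(94,3,95,0,[],[]),(95,1,96,0,[],[]),(96,2,97,0,[],[]),(97,3,98,0,[],[]),(98,8,99,0,[],[]),(99,7,100,0,[],[]),(100,3,101,0,[],[]),(101,5,102,0,[],[]),(102,4,103,0,[],[]),(103,3,104,0,[],[]),(104,1,105,0,[],[]),(105,2,106,0,[],[]),(106,3,107,0,[],[]),(107,8,108,0,[],[]),(108,7,109,0,[],[]),(109,3,110,0,[],[]),(110,5,11,47,[(1,0,5),(1,0,48),(1,0,51),(1,0,52),(1,0,53),(1,0,54),(1,0,55),(1,0,56),(1,0,57),(1,0,58),(1,0,59),(1,0,60),(1,0,61),(1,0,62),(1,0,63),(1,0,64),(1,0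,65),(1,0,66),(1,0,67),(1,0,68),(1,0,69),(1,0,70),(1,0,71),(1,0,72),(1,0,73),(1,0,74),(1,0,75),(1,0,76),(1,0,77),(1,0,78),(1,0,79),(1,0,80),(1,0,81),(1,0,82),(1,0,83),(1,0,84),(1,0,85),(1,0,86),(1,0,87),(1,0,88),(1,0,89),(1,0,90),(1,0,91),(1,0,92),(1,0,93),(1,0,94),(1,0,95),(1,0,96),(1,0,97),(1,0,98),(1,0,99),(1,0,100),(1,0,101),(1,0,102),(1,0,103),(1,0,104),(1,0,105),(1,0,106),(1,0,107),(1,0,108),(1,0,109),(1,0,110),(1,0,111),(1,0,112),(1,0,113),(1,0,114),(1,0,115),(1,0,116),(1,0,117),(1,0,118),(1,0,119),(1,0,120),(1,0,121),(1,0,122),(1,0,123),(1,0,124),(1,0,125),(1,0,126),(1,0,127),(1,0,128),(1,0,129),(1,0,130),(1,0,131),(1,0,132)],[(0,3,0),(0,2,0),(1,0,1),(2,0,16),(2,0,18)]),(7,2,7,4,[(2,0,25),(1,0,8)],[(1,0,8)]),(9,2,9,4,[(2,0,26),(1,0,12)],[(1,0,12)]),(10,2,10,4,[(2,0,27),(1,0,14)],[(1,0,14)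]),(8,3,8,5,[(2,0,28),(1,0,10)],[(1,0,10)]),(10,3,10,5,[(2,0,29),(1,0,14)],[(1,0,14)]),(25,0,27,7,[(2,0,47)],[(1,0,8),(1,0,49)]),(21,3,21,13,[(2,0,7),(2,0,41)],[(2,0,41)]),(12,3,12,13,[(2,0,28),(1,0,19)],[(1,0,19)]),(14,3,14,13,[(2,0,29),(1,0,23)],[(1,0,23)]),(25,1,110,15,[(2,0,47)],[(1,0,17),(2,0,133)]),(7,1,111,0,[],[]),(111,4,21,14,[(2,0,9),(1,0,144)],[(2,0,41)]),(8,1,112,0,[],[]),(112,5,21,15,[(2,0,11),(1,0,146)],[(2,0,41)]),(9,1,113,0,[],[]),(10,1,114,0,[],[]),(114,8,21,18,[(2,0,15),(1,0,149)],[(2,0,41)]),(9,4,115,0,[],[]),(115,7,7,35,[(2,0,13),(1,0,151)],[(2,0,9)]),(10,4,116,0,[],[]),(116,8,7,36,[(2,0,15),(1,0,153)],[(2,0,9)]),(9,5,117,0,[],[]),(117,7,8,39,[(2,0,13),(1,0,155)],[(2,0,11)]),(10,5,118,0,[],[]),(118,8,8,40,[(2,0,15),(1,0,157)],[(2,0,11)]),(7,3,119,0,[],[]),(119,4,119,27,[(2,0,9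),(1,0,159)],[(2,0,7),(2,0,9),(1,0,159)]),(9,3,120,0,[],[]),(120,7,120,30,[(2,0,13),(1,0,161)],[(2,0,7),(2,0,13),(1,0,161)]),(10,7,121,0,[],[]),(110,8,122,0,[],[]),(122,3,123,0,[],[]),(123,4,120,50,[(2,0,0),(1,0,2),(2,0,47),(1,0,143),(1,0,164),(1,0,165)],[(2,0,13),(2,0,135),(1,0,161),(2,0,162)]),(121,3,124,0,[],[]),(124,5,125,0,[],[]),(125,4,126,0,[],[]),(126,3,127,0,[],[]),(127,1,128,0,[],[]),(128,2,129,0,[],[]),(129,3,130,0,[],[]),(130,8,131,0,[],[]),(131,7,132,0,[],[]),(132,3,133,0,[],[]),(133,5,134,0,[],[]),(134,4,135,0,[],[]),(135,3,136,0,[],[]),(136,1,137,0,[],[]),(137,2,138,0,[],[]),(138,3,139,0,[],[]),(139,8,140,0,[],[]),(140,7,141,0,[],[]),(141,3,142,0,[],[]),(142,5,143,0,[],[]),(143,4,144,0,[],[]),(144,3,145,0,[],[]),(145,1,146,0,[],[]),(146,2,147,0,[],[]),(147,3,148,0,[],[]),(148,8,149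,0,[],[]),(149,7,150,0,[],[]),(150,3,151,0,[],[]),(151,5,152,0,[],[]),(152,4,153,0,[],[]),(153,3,154,0,[],[]),(154,1,155,0,[],[]),(155,2,156,0,[],[]),(156,3,157,0,[],[]),(157,8,158,0,[],[]),(158,7,159,0,[],[]),(159,3,160,0,[],[]),(160,5,161,0,[],[]),(161,4,162,0,[],[]),(162,3,163,0,[],[]),(163,1,164,0,[],[]),(164,2,165,0,[],[]),(165,3,166,0,[],[]),(166,8,167,0,[],[]),(167,7,168,0,[],[]),(168,3,169,0,[],[]),(169,5,170,0,[],[]),(170,4,171,0,[],[]),(171,3,172,0,[],[]),(172,1,173,0,[],[]),(173,2,174,0,[],[]),(174,3,175,0,[],[]),(175,8,176,0,[],[]),(176,7,177,0,[],[]),(177,3,178,0,[],[]),(178,5,179,0,[],[]),(179,4,180,0,[],[]),(180,3,181,0,[],[]),(181,1,182,0,[],[]),(182,2,183,0,[],[]),(183,3,184,0,[],[]),(184,8,185,0,[],[]),(185,7,186,0,[],[]),(186,3,187,0,[],[]),(187,5,188,0,[],[]),(188,4,189,0,[],[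]),(189,3,190,0,[],[]),(190,1,191,0,[],[]),(191,2,192,0,[],[]),(192,3,193,0,[],[]),(193,8,194,0,[],[]),(194,7,195,0,[],[]),(195,3,196,0,[],[]),(196,5,197,0,[],[]),(197,4,198,0,[],[]),(198,3,199,0,[],[]),(199,1,200,0,[],[]),(200,2,201,0,[],[]),(201,3,202,0,[],[]),(202,8,203,0,[],[]),(203,7,204,0,[],[]),(204,3,205,0,[],[]),(205,5,111,47,[(2,0,15),(1,0,163),(1,0,167),(1,0,168),(1,0,169),(1,0,170),(1,0,171),(1,0,172),(1,0,173),(1,0,174),(1,0,175),(1,0,176),(1,0,177),(1,0,178),(1,0,179),(1,0,180),(1,0,181),(1,0,182),(1,0,183),(1,0,184),(1,0,185),(1,0,186),(1,0,187),(1,0,188),(1,0,189),(1,0,190),(1,0,191),(1,0,192),(1,0,193),(1,0,194),(1,0,195),(1,0,196),(1,0,197),(1,0,198),(1,0,199),(1,0,200),(1,0,201),(1,0,202),(1,0,203),(1,0,204),(1,0,205),(1,0,206),(1,0,207),(1,0,208),(1,0,209),(1,0,210),(1,0,211),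(1,0,212),(1,0,213),(1,0,214),(1,0,215),(1,0,216),(1,0,217),(1,0,218),(1,0,219),(1,0,220),(1,0,221),(1,0,222),(1,0,223),(1,0,224),(1,0,225),(1,0,226),(1,0,227),(1,0,228),(1,0,229),(1,0,230),(1,0,231),(1,0,232),(1,0,233),(1,0,234),(1,0,235),(1,0,236),(1,0,237),(1,0,238),(1,0,239),(1,0,240),(1,0,241),(1,0,242),(1,0,243),(1,0,244),(1,0,245),(1,0,246),(1,0,247),(1,0,248)],[(2,0,7),(2,0,6),(2,0,41),(2,0,140),(2,0,145)]),(115,0,15,6,[(1,0,151)],[(2,0,12),(1,0,30)]),(116,0,16,6,[(1,0,153)],[(2,0,14),(1,0,32)]),(117,0,17,7,[(1,0,155)],[(2,0,12),(1,0,34)]),(118,0,18,7,[(1,0,157)],[(2,0,14),(1,0,36)]),(112,3,112,13,[(2,0,137),(1,0,146)],[(1,0,146)]),(28,9,205,15,[(1,0,49),(1,0,50)],[(1,0,144),(2,0,249)]),(205,9,28,1,[(2,0,255)],[]),(28,5,111,1,[(2,0,256),(1,0,249)],[]),(115,2,115,21,[(1,0,151)],[(2,0,135),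(1,0,151)]),(116,2,116,21,[(1,0,153)],[(2,0,136),(1,0,153)]),(121,2,121,24,[(1,0,163)],[(2,0,136),(1,0,163)]),(124,7,124,30,[(1,0,163),(1,0,167)],[(2,0,138),(1,0,163),(1,0,167)]),(12,0,206,0,[],[]),(12,2,207,0,[],[]),(207,5,22,22,[(2,0,20),(1,0,263)],[(1,0,42)]),(14,4,208,0,[],[]),(208,8,11,36,[(2,0,24),(1,0,265)],[(2,0,18)]),(13,5,209,0,[],[]),(209,7,12,39,[(2,0,22),(1,0,267)],[(2,0,20)]),(14,5,210,0,[],[]),(210,8,12,40,[(2,0,24),(1,0,269)],[(2,0,20)]),(12,4,211,0,[],[]),(209,4,212,0,[],[]),(212,3,213,0,[],[]),(213,2,214,0,[],[]),(208,1,16,14,[(1,0,265)],[(2,0,23),(1,0,32)]),(207,1,207,15,[(2,0,264)],[(2,0,43),(2,0,264)]),(209,1,17,15,[(1,0,267)],[(2,0,21),(1,0,34)]),(210,1,18,15,[(1,0,269)],[(2,0,23),(1,0,36)]),(210,3,210,28,[(1,0,269)],[(2,0,142),(1,0,269)]),(212,7,211,35,[(2,0,268),(1,0,272)]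,[(1,0,271)]),(208,5,122,40,[(2,0,266)],[(2,0,133),(1,0,164)]),(15,5,215,0,[],[]),(215,7,25,39,[(2,0,31),(1,0,282)],[(2,0,47)]),(16,5,216,0,[],[]),(15,3,217,0,[],[]),(16,7,218,0,[],[]),(218,8,219,0,[],[]),(219,7,220,0,[],[]),(220,8,15,45,[(2,0,33),(1,0,286),(1,0,287),(1,0,288)],[(2,0,31)]),(112,8,221,0,[],[]),(216,1,122,15,[(1,0,284)],[(2,0,275),(1,0,281)]),(206,1,222,0,[],[]),(222,0,112,3,[(1,0,19),(1,0,262),(1,0,292)],[(1,0,10),(1,0,146)]),(118,1,221,18,[(2,0,158)],[(1,0,146),(1,0,290)]),(115,5,223,0,[],[]),(223,1,224,0,[],[]),(224,8,217,50,[(1,0,12),(1,0,151),(1,0,295),(1,0,296)],[(2,0,4),(0,2,0),(0,3,0),(1,0,4),(1,0,30),(1,0,285)]),(220,3,224,31,[(2,0,289)],[(1,0,285),(2,0,297)]),(109,4,124,50,[(2,0,14),(1,0,32),(1,0,284),(1,0,291),(2,0,164),(2,0,132)],[(1,0,163),(2,0,260),(1,0,167),(2,0,261)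]),(115,1,225,0,[],[]),(223,7,27,39,[(2,0,152),(1,0,295)],[(1,0,49)]),(115,3,226,0,[],[]),(226,7,227,0,[],[]),(227,3,228,0,[],[]),(228,7,119,30,[(2,0,152),(1,0,302),(1,0,303),(1,0,304)],[(1,0,159)]),(116,7,229,0,[],[]),(229,8,230,0,[],[]),(230,7,231,0,[],[]),(231,8,115,45,[(2,0,154),(1,0,306),(1,0,307),(1,0,308)],[(2,0,152)]),(210,4,227,50,[(2,0,8),(2,0,2),(1,0,3),(1,0,19),(2,0,270),(2,0,279)],[(2,0,152),(2,0,258),(1,0,302),(1,0,303)]),(113,4,225,14,[(2,0,151),(1,0,148)],[(1,0,300)]),(224,7,28,17,[(2,0,301),(1,0,296)],[(1,0,50)]),(229,2,229,24,[(1,0,306)],[(2,0,259),(1,0,306)]),(231,2,231,25,[(2,0,309)],[(2,0,258),(2,0,309)]),(228,4,228,35,[(2,0,305)],[(2,0,160),(2,0,305)]),(229,4,121,35,[(1,0,306)],[(2,0,153),(1,0,163)]),(122,4,226,27,[(2,0,151),(1,0,161),(2,0,166),(2,0,165)],[(1,0,302)]),(209,8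,227,50,[(1,0,250),(2,0,30),(1,0,34),(2,0,277)],[(1,0,152),(2,0,134),(1,0,159),(2,0,305),(2,0,315),(2,0,304)]),(214,9,229,50,[(1,0,251),(2,0,32),(1,0,36),(2,0,278),(1,0,270),(2,0,141),(1,0,271),(2,0,280),(1,0,273),(1,0,274)],[(1,0,306)]),(229,9,214,1,[(2,0,319)],[]),(214,2,214,1,[(2,0,320),(2,0,313),(1,0,320)],[]),(213,9,214,1,[(1,0,274),(1,0,321)],[]),(214,4,121,1,[(2,0,320),(1,0,316)],[]),(214,9,213,1,[(2,0,322)],[]),(213,4,121,1,[(2,0,324),(1,0,323)],[]),(117,1,232,0,[],[]),(232,7,112,17,[(2,0,156),(1,0,326)],[(1,0,146)]),(20,5,222,7,[(1,0,147),(2,0,40)],[(2,0,293)]),(113,5,232,15,[(2,0,155),(1,0,148)],[(1,0,326)]),(215,1,233,0,[],[]),(233,8,226,50,[(2,0,12),(1,0,30),(1,0,282),(1,0,330)],[(1,0,13),(2,0,6),(2,0,7),(2,0,13),(1,0,151),(1,0,302)]),(231,3,233,31,[(2,0,309)],[(1,0,302),(2,0,331)]),(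209,9,110,27,[(2,0,325),(2,0,273),(2,0,272)],[(1,0,167),(2,0,299),(1,0,132)]),(209,9,110,1,[(1,0,333)],[]),(110,1,17,1,[(2,0,334),(1,0,277)],[]),(25,9,17,1,[(1,0,143),(1,0,335)],[]),(110,8,227,1,[(2,0,334),(1,0,318)],[]),(122,9,227,1,[(2,0,164),(1,0,337)],[]),(25,9,17,1,[(1,0,336)],[]),(17,0,27,1,[(2,0,339),(1,0,139)],[]),(117,9,27,1,[(1,0,252),(1,0,340)],[]),(17,5,3,1,[(2,0,339),(1,0,47)],[]),(5,9,3,1,[(1,0,34),(1,0,342)],[]),(17,7,215,1,[(2,0,339),(2,0,283)],[]),(4,9,215,1,[(2,0,35),(1,0,344)],[]),(227,9,122,1,[(2,0,338)],[]),(122,4,210,1,[(2,0,346),(2,0,310)],[]),(226,9,210,1,[(2,0,317),(1,0,347)],[]),(117,9,27,1,[(1,0,341)],[]),(27,1,232,1,[(2,0,349),(1,0,326)],[]),(28,9,232,1,[(2,0,50),(1,0,350)],[]),(27,5,9,1,[(2,0,349),(2,0,155)],[]),(7,9,9,1,[(1,0,49),(1,0,352)],[]),(5,9,3,1,[(1,0,343)],[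]),(3,4,15,1,[(2,0,354),(1,0,30)],[]),(0,9,15,1,[(1,0,2),(1,0,355)],[]),(215,9,4,1,[(2,0,345)],[]),(4,1,233,1,[(2,0,357),(1,0,330)],[]),(12,9,233,1,[(2,0,19),(1,0,358)],[]),(226,9,210,1,[(1,0,348)],[]),(210,3,115,1,[(2,0,360),(2,0,302)],[]),(210,9,115,1,[(1,0,279),(1,0,361)],[]),(232,9,28,1,[(2,0,351)],[]),(28,5,113,1,[(2,0,363),(2,0,329)],[]),(111,9,113,1,[(2,0,257),(1,0,364)],[]),(28,7,112,1,[(2,0,363),(1,0,327)],[]),(224,9,112,1,[(1,0,312),(1,0,366)],[]),(9,9,7,1,[(2,0,353)],[]),(7,4,115,1,[(2,0,368),(1,0,151)],[]),(1,9,115,1,[(2,0,9),(1,0,369)],[]),(15,9,0,1,[(2,0,356)],[]),(0,3,217,1,[(2,0,371),(1,0,285)],[]),(0,9,217,1,[(0,3,0),(1,0,372)],[]),(0,8,220,1,[(2,0,371),(2,0,289)],[]),(6,9,220,1,[(2,0,5),(1,0,374)],[]),(233,9,12,1,[(2,0,359)],[]),(12,3,231,1,[(2,0,376),(2,0,332)],[]),(12,9,231,1,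[(1,0,141),(1,0,377)],[]),(210,9,115,1,[(1,0,362)],[]),(115,1,18,1,[(2,0,379),(1,0,278)],[]),(225,9,18,1,[(2,0,300),(1,0,380)],[]),(113,9,111,1,[(2,0,365)],[]),(111,4,225,1,[(2,0,382),(1,0,311)],[]),(21,9,225,1,[(2,0,145),(1,0,383)],[]),(224,9,112,1,[(1,0,367)],[]),(112,3,220,1,[(2,0,385),(2,0,298)],[]),(112,9,220,1,[(1,0,254),(1,0,386)],[]),(112,8,217,1,[(2,0,385),(1,0,297)],[]),(221,9,217,1,[(2,0,290),(1,0,388)],[]),(115,9,1,1,[(2,0,370)],[]),(1,8,231,1,[(2,0,390),(2,0,309)],[]),(10,9,231,1,[(1,0,15),(1,0,391)],[]),(217,9,0,1,[(2,0,373)],[]),(220,9,6,1,[(2,0,375)],[]),(231,9,12,1,[(2,0,378)],[]),(12,2,12,1,[(2,0,395),(2,0,314),(1,0,395)],[]),(207,9,12,1,[(2,0,263),(1,0,396)],[]),(225,9,18,1,[(1,0,381)],[]),(21,9,18,1,[(1,0,384),(1,0,398)],[]),(18,0,20,1,[(2,0,399),(2,0,40)],[]),(118,9,20,1,[(1,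0,253),(1,0,400)],[]),(18,8,114,1,[(2,0,399),(2,0,150)],[]),(4,9,114,1,[(2,0,37),(1,0,402)],[]),(112,9,6,1,[(1,0,387),(1,0,394)],[]),(6,0,222,1,[(2,0,404),(2,0,293)],[]),(10,9,222,1,[(2,0,14),(1,0,405)],[]),(221,9,0,1,[(1,0,389),(1,0,393)],[]),(0,1,118,1,[(2,0,407),(2,0,294)],[]),(2,9,118,1,[(2,0,1),(1,0,408)],[]),(12,9,10,1,[(2,0,395),(2,0,392)],[]),(207,9,10,1,[(1,0,397),(1,0,410)],[]),(10,1,10,1,[(2,0,411),(2,0,276),(1,0,411)],[]),(114,9,10,1,[(2,0,149),(1,0,412)],[]),(118,9,20,1,[(1,0,401)],[]),(114,9,4,1,[(2,0,403)],[]),(222,9,10,1,[(2,0,406)],[]),(10,5,20,1,[(2,0,416),(2,0,328)],[]),(20,9,2,1,[(2,0,414),(2,0,409)],[]),(2,5,10,1,[(2,0,418),(2,0,417)],[]),(10,9,4,1,[(2,0,413),(1,0,415)],[]),(4,5,2,1,[(2,0,420),(2,0,419)],[]),(0,9,2,1,[(1,0,3),(1,0,421)],[]),(2,9,0,1,[(2,0,422)],[]),(0,1,0,1,[(2,0,423),(2,0,1)],[]),(0,1,0,1,[(2,0,424)],[])])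

def patch3 : Patch := ([(0,0),(0,4),(0,5),(0,7),(0,8),(4,0),(5,4),(2,3),(4,3),(3,4),(10,5),(11,4),(6,3),(12,8),(14,3),(7,3),(9,2)],[(0,0,1,0,[],[]),(0,4,2,0,[],[]),(0,5,3,0,[],[]),(0,7,4,0,[],[]),(0,8,5,0,[],[]),(1,3,1,5,[(0,3,0),(1,0,0)],[(1,0,0)]),(4,0,6,0,[],[]),(6,7,1,9,[(1,0,3),(1,0,6)],[(1,0,0)]),(2,1,2,14,[(1,0,1)],[(0,1,0),(1,0,1)]),(5,1,5,18,[(1,0,4)],[(0,1,0),(1,0,4)]),(4,2,4,24,[(1,0,3)],[(0,2,0),(1,0,3)]),(5,4,7,0,[],[]),(7,8,2,36,[(1,0,4),(1,0,11)],[(1,0,1)]),(2,3,8,0,[],[]),(4,3,9,0,[],[]),(9,7,9,30,[(1,0,3),(1,0,14)],[(0,3,0),(1,0,3),(1,0,14)]),(3,4,10,0,[],[]),(10,5,11,0,[],[]),(11,4,12,0,[],[]),(12,5,2,33,[(1,0,2),(1,0,16),(1,0,17),(1,0,18)],[(1,0,1)]),(6,2,6,4,[(2,0,10),(1,0,6)],[(1,0,6)]),(7,1,7,14,[(1,0,11)],[(2,0,9),(1,0,11)]),(12,1,12,15,[(2,0,19)],[(2,0,8),(2,0,19)]),(6,3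,13,0,[],[]),(13,7,13,30,[(2,0,7),(1,0,23)],[(2,0,5),(2,0,7),(1,0,23)]),(12,8,14,0,[],[]),(14,3,15,0,[],[]),(15,4,13,50,[(2,0,0),(1,0,1),(2,0,19),(2,0,22),(1,0,25),(1,0,26)],[(2,0,7),(2,0,20),(1,0,23),(2,0,24)]),(13,0,9,5,[(1,0,23)],[(2,0,6),(1,0,14)]),(7,3,16,0,[],[]),(16,8,8,31,[(2,0,12),(1,0,29)],[(1,0,13)]),(7,5,14,40,[(2,0,12)],[(2,0,19),(1,0,25)]),(16,1,16,13,[(1,0,29)],[(2,0,21),(1,0,29)]),(15,5,16,28,[(1,0,31),(1,0,26)],[(1,0,29)]),(9,2,17,0,[],[]),(17,3,17,20,[(1,0,14),(1,0,34)],[(2,0,10),(1,0,14),(1,0,34)]),(17,7,17,24,[(2,0,15),(1,0,34)],[(1,0,34)]),(17,9,9,50,[(2,0,28),(2,0,27),(1,0,33),(2,0,32),(1,0,30),(2,0,13),(2,0,1),(1,0,3),(1,0,14),(1,0,34),(2,0,36)],[]),(17,9,9,1,[(1,0,37)],[]),(9,3,9,1,[(2,0,38),(2,0,35),(1,0,38)],[]),(4,9,9,1,[(1,0,14),(1,0,39)],[]),(9,9,4,1,[(2,0,40)],[]),(4,7,4,1,[(2,0,41),(2,0,15),(1,0,41)],[]),(0,9,4,1,[(1,0,3),(1,0,42)],[]),(4,9,0,1,[(2,0,43)],[]),(0,7,0,1,[(2,0,44),(2,0,3)],[]),(0,7,0,1,[(2,0,45)],[])])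

def patch4 : Patch := ([(0,0),(0,4),(0,5),(0,8),(2,0),(4,0),(1,1),(2,3),(3,4),(9,5),(10,4),(4,7),(5,5),(13,1),(12,3),(15,5),(16,4),(17,3),(18,1),(19,2),(20,3),(21,8),(22,7),(23,3),(24,5),(25,4),(26,3),(27,1),(28,2),(29,3),(30,8),(31,7),(32,3),(33,5),(34,4),(35,3),(36,1),(37,2),(38,3),(39,8),(40,7),(41,3),(42,5),(43,4),(44,3),(45,1),(46,2),(47,3),(48,8),(49,7),(50,3),(51,5),(52,4),(53,3),(54,1),(55,2),(56,3),(57,8),(58,7),(59,3),(60,5),(61,4),(62,3),(63,1),(64,2),(65,3),(66,8),(67,7),(68,3),(69,5),(70,4),(71,3),(72,1),(73,2),(74,3),(75,8),(76,7),(77,3),(78,5),(79,4),(80,3),(81,1),(82,2),(83,3),(84,8),(85,7),(86,3),(87,5),(88,4),(89,3),(90,1),(91,2),(92,3),(93,8),(94,7),(5,1),(6,4),(5,3),(6,7),(99,3),(100,5),(101,4),(102,3),(103,1),(104,2),(105,3),(106,8),(107,7),(108,3),(109,5),(110,4),(111,3),(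112,1),(113,2),(114,3),(115,8),(116,7),(117,3),(118,5),(119,4),(120,3),(121,1),(122,2),(123,3),(124,8),(125,7),(126,3),(127,5),(128,4),(129,3),(130,1),(131,2),(132,3),(133,8),(134,7),(135,3),(136,5),(137,4),(138,3),(139,1),(140,2),(141,3),(142,8),(143,7),(144,3),(145,5),(146,4),(147,3),(148,1),(149,2),(150,3),(151,8),(152,7),(153,3),(154,5),(155,4),(156,3),(157,1),(158,2),(159,3),(160,8),(161,7),(162,3),(163,5),(164,4),(165,3),(166,1),(167,2),(168,3),(169,8),(170,7),(171,3),(172,5),(173,4),(174,3),(175,1),(176,2),(177,3),(178,8),(179,7),(180,3)],[(0,0,1,0,[],[]),(0,4,2,0,[],[]),(0,5,3,0,[],[]),(0,8,4,0,[],[]),(1,2,1,4,[(0,2,0),(1,0,0)],[(1,0,0)]),(1,3,1,5,[(0,3,0),(1,0,0)],[(1,0,0)]),(2,0,5,0,[],[]),(5,4,1,6,[(1,0,1),(1,0,6)],[(1,0,0)]),(1,7,1,9,[(0,7,0),(1,0,0)],[(1,0,0)]),(4,0,6,0,[],[]),(6,8,1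,10,[(1,0,3),(1,0,9)],[(1,0,0)]),(2,1,2,14,[(1,0,1)],[(0,1,0),(1,0,1)]),(1,1,7,0,[],[]),(7,0,7,3,[(0,1,0),(1,0,0),(1,0,12)],[(1,0,0),(1,0,12)]),(2,3,8,0,[],[]),(3,4,9,0,[],[]),(9,5,10,0,[],[]),(10,4,11,0,[],[]),(11,5,2,33,[(1,0,2),(1,0,15),(1,0,16),(1,0,17)],[(1,0,1)]),(4,7,12,0,[],[]),(5,5,13,0,[],[]),(13,1,14,0,[],[]),(14,8,8,50,[(1,0,0),(2,0,7),(1,0,20),(1,0,21)],[(0,7,0),(0,2,0),(0,3,0),(0,7,0),(1,0,1),(1,0,14)]),(12,3,15,0,[],[]),(15,5,16,0,[],[]),(16,4,17,0,[],[]),(17,3,18,0,[],[]),(18,1,19,0,[],[]),(19,2,20,0,[],[]),(20,3,21,0,[],[]),(21,8,22,0,[],[]),(22,7,23,0,[],[]),(23,3,24,0,[],[]),(24,5,25,0,[],[]),(25,4,26,0,[],[]),(26,3,27,0,[],[]),(27,1,28,0,[],[]),(28,2,29,0,[],[]),(29,3,30,0,[],[]),(30,8,31,0,[],[]),(31,7,32,0,[],[]),(32,3,33,0,[],[]),(33,5,34,0,[],[]),(34,4,35,0,[],[]),(35,3,36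,0,[],[]),(36,1,37,0,[],[]),(37,2,38,0,[],[]),(38,3,39,0,[],[]),(39,8,40,0,[],[]),(40,7,41,0,[],[]),(41,3,42,0,[],[]),(42,5,43,0,[],[]),(43,4,44,0,[],[]),(44,3,45,0,[],[]),(45,1,46,0,[],[]),(46,2,47,0,[],[]),(47,3,48,0,[],[]),(48,8,49,0,[],[]),(49,7,50,0,[],[]),(50,3,51,0,[],[]),(51,5,52,0,[],[]),(52,4,53,0,[],[]),(53,3,54,0,[],[]),(54,1,55,0,[],[]),(55,2,56,0,[],[]),(56,3,57,0,[],[]),(57,8,58,0,[],[]),(58,7,59,0,[],[]),(59,3,60,0,[],[]),(60,5,61,0,[],[]),(61,4,62,0,[],[]),(62,3,63,0,[],[]),(63,1,64,0,[],[]),(64,2,65,0,[],[]),(65,3,66,0,[],[]),(66,8,67,0,[],[]),(67,7,68,0,[],[]),(68,3,69,0,[],[]),(69,5,70,0,[],[]),(70,4,71,0,[],[]),(71,3,72,0,[],[]),(72,1,73,0,[],[]),(73,2,74,0,[],[]),(74,3,75,0,[],[]),(75,8,76,0,[],[]),(76,7,77,0,[],[]),(77,3,78,0,[],[]),(78,5,79,0,[],[]),(79,4,80,0,[],[]),(80,3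,81,0,[],[]),(81,1,82,0,[],[]),(82,2,83,0,[],[]),(83,3,84,0,[],[]),(84,8,85,0,[],[]),(85,7,86,0,[],[]),(86,3,87,0,[],[]),(87,5,88,0,[],[]),(88,4,89,0,[],[]),(89,3,90,0,[],[]),(90,1,91,0,[],[]),(91,2,92,0,[],[]),(92,3,93,0,[],[]),(93,8,94,0,[],[]),(94,7,95,0,[],[]),(95,3,11,47,[(1,0,3),(1,0,19),(1,0,23),(1,0,24),(1,0,25),(1,0,26),(1,0,27),(1,0,28),(1,0,29),(1,0,30),(1,0,31),(1,0,32),(1,0,33),(1,0,34),(1,0,35),(1,0,36),(1,0,37),(1,0,38),(1,0,39),(1,0,40),(1,0,41),(1,0,42),(1,0,43),(1,0,44),(1,0,45),(1,0,46),(1,0,47),(1,0,48),(1,0,49),(1,0,50),(1,0,51),(1,0,52),(1,0,53),(1,0,54),(1,0,55),(1,0,56),(1,0,57),(1,0,58),(1,0,59),(1,0,60),(1,0,61),(1,0,62),(1,0,63),(1,0,64),(1,0,65),(1,0,66),(1,0,67),(1,0,68),(1,0,69),(1,0,70),(1,0,71),(1,0,72),(1,0,73),(1,0,74),(1,0,75),(1,0,76),(1,0,77),(1,0,78),(1,0,79)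,(1,0,80),(1,0,81),(1,0,82),(1,0,83),(1,0,84),(1,0,85),(1,0,86),(1,0,87),(1,0,88),(1,0,89),(1,0,90),(1,0,91),(1,0,92),(1,0,93),(1,0,94),(1,0,95),(1,0,96),(1,0,97),(1,0,98),(1,0,99),(1,0,100),(1,0,101),(1,0,102),(1,0,103)],[(0,3,0),(0,2,0),(0,1,0),(0,3,0),(1,0,1),(2,0,18)]),(7,3,7,13,[(2,0,5),(1,0,12)],[(1,0,12)]),(11,1,11,15,[(2,0,18)],[(2,0,11),(2,0,18)]),(95,5,8,28,[(2,0,18),(2,0,104)],[(1,0,14)]),(5,1,96,0,[],[]),(96,4,7,14,[(2,0,7),(1,0,108)],[(1,0,12)]),(6,4,97,0,[],[]),(97,8,5,36,[(2,0,10),(1,0,110)],[(2,0,7)]),(5,3,98,0,[],[]),(6,7,99,0,[],[]),(11,8,98,50,[(2,0,0),(1,0,1),(2,0,18),(2,0,106)],[(2,0,8),(2,0,4),(2,0,5),(2,0,8),(2,0,7),(1,0,112)]),(99,3,100,0,[],[]),(100,5,101,0,[],[]),(101,4,102,0,[],[]),(102,3,103,0,[],[]),(103,1,104,0,[],[]),(104,2,105,0,[],[]),(105,3,106,0,[],[]),(106,8,10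7,0,[],[]),(107,7,108,0,[],[]),(108,3,109,0,[],[]),(109,5,110,0,[],[]),(110,4,111,0,[],[]),(111,3,112,0,[],[]),(112,1,113,0,[],[]),(113,2,114,0,[],[]),(114,3,115,0,[],[]),(115,8,116,0,[],[]),(116,7,117,0,[],[]),(117,3,118,0,[],[]),(118,5,119,0,[],[]),(119,4,120,0,[],[]),(120,3,121,0,[],[]),(121,1,122,0,[],[]),(122,2,123,0,[],[]),(123,3,124,0,[],[]),(124,8,125,0,[],[]),(125,7,126,0,[],[]),(126,3,127,0,[],[]),(127,5,128,0,[],[]),(128,4,129,0,[],[]),(129,3,130,0,[],[]),(130,1,131,0,[],[]),(131,2,132,0,[],[]),(132,3,133,0,[],[]),(133,8,134,0,[],[]),(134,7,135,0,[],[]),(135,3,136,0,[],[]),(136,5,137,0,[],[]),(137,4,138,0,[],[]),(138,3,139,0,[],[]),(139,1,140,0,[],[]),(140,2,141,0,[],[]),(141,3,142,0,[],[]),(142,8,143,0,[],[]),(143,7,144,0,[],[]),(144,3,145,0,[],[]),(145,5,146,0,[],[]),(146,4,147,0,[],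[]),(147,3,148,0,[],[]),(148,1,149,0,[],[]),(149,2,150,0,[],[]),(150,3,151,0,[],[]),(151,8,152,0,[],[]),(152,7,153,0,[],[]),(153,3,154,0,[],[]),(154,5,155,0,[],[]),(155,4,156,0,[],[]),(156,3,157,0,[],[]),(157,1,158,0,[],[]),(158,2,159,0,[],[]),(159,3,160,0,[],[]),(160,8,161,0,[],[]),(161,7,162,0,[],[]),(162,3,163,0,[],[]),(163,5,164,0,[],[]),(164,4,165,0,[],[]),(165,3,166,0,[],[]),(166,1,167,0,[],[]),(167,2,168,0,[],[]),(168,3,169,0,[],[]),(169,8,170,0,[],[]),(170,7,171,0,[],[]),(171,3,172,0,[],[]),(172,5,173,0,[],[]),(173,4,174,0,[],[]),(174,3,175,0,[],[]),(175,1,176,0,[],[]),(176,2,177,0,[],[]),(177,3,178,0,[],[]),(178,8,179,0,[],[]),(179,7,180,0,[],[]),(180,3,181,0,[],[]),(181,5,96,47,[(2,0,10),(1,0,113),(1,0,115),(1,0,116),(1,0,117),(1,0,118),(1,0,119),(1,0,120),(1,0,121),(1,0,122),(1,0,123),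(1,0,124),(1,0,125),(1,0,126),(1,0,127),(1,0,128),(1,0,129),(1,0,130),(1,0,131),(1,0,132),(1,0,133),(1,0,134),(1,0,135),(1,0,136),(1,0,137),(1,0,138),(1,0,139),(1,0,140),(1,0,141),(1,0,142),(1,0,143),(1,0,144),(1,0,145),(1,0,146),(1,0,147),(1,0,148),(1,0,149),(1,0,150),(1,0,151),(1,0,152),(1,0,153),(1,0,154),(1,0,155),(1,0,156),(1,0,157),(1,0,158),(1,0,159),(1,0,160),(1,0,161),(1,0,162),(1,0,163),(1,0,164),(1,0,165),(1,0,166),(1,0,167),(1,0,168),(1,0,169),(1,0,170),(1,0,171),(1,0,172),(1,0,173),(1,0,174),(1,0,175),(1,0,176),(1,0,177),(1,0,178),(1,0,179),(1,0,180),(1,0,181),(1,0,182),(1,0,183),(1,0,184),(1,0,185),(1,0,186),(1,0,187),(1,0,188),(1,0,189),(1,0,190),(1,0,191),(1,0,192),(1,0,193),(1,0,194),(1,0,195),(1,0,196)],[(2,0,5),(2,0,4),(1,0,12),(2,0,105),(2,0,109)]),(96,0,96,6,[(2,0,109)],[(2,0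,13),(2,0,109)]),(14,9,181,15,[(1,0,20),(1,0,21)],[(1,0,108),(2,0,197)]),(181,9,14,1,[(2,0,199)],[]),(14,5,96,1,[(2,0,200),(1,0,197)],[]),(97,9,95,31,[(2,0,111)],[(1,0,112),(2,0,114),(2,0,104)]),(97,9,95,1,[(1,0,202)],[]),(95,8,5,1,[(2,0,203),(1,0,111)],[]),(96,9,5,40,[(2,0,204),(1,0,107),(2,0,22),(1,0,201)],[]),(96,9,5,1,[(1,0,205)],[]),(5,0,5,1,[(2,0,206),(2,0,198),(1,0,206)],[]),(2,9,5,1,[(1,0,6),(1,0,207)],[]),(5,9,2,1,[(2,0,208)],[]),(2,4,1,1,[(2,0,209),(1,0,7)],[]),(0,9,1,1,[(1,0,1),(1,0,210)],[]),(1,9,0,1,[(2,0,211)],[]),(0,0,0,1,[(2,0,212),(2,0,0)],[]),(0,0,0,1,[(2,0,213)],[])])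

def patch5 : Patch := ([(0,4),(0,5),(0,8),(3,4),(1,3),(2,4),(6,5),(7,4),(3,7),(8,1),(9,3),(11,5),(12,4),(13,3),(14,1),(15,2),(16,3),(17,8),(18,7),(19,3),(20,5),(21,4),(22,3),(23,1),(24,2),(25,3),(26,8),(27,7),(28,3),(29,5),(30,4),(31,3),(32,1),(33,2),(34,3),(35,8),(36,7),(37,3),(38,5),(39,4),(40,3),(41,1),(42,2),(43,3),(44,8),(45,7),(46,3),(47,5),(48,4),(49,3),(50,1),(51,2),(52,3),(53,8),(54,7),(55,3),(56,5),(57,4),(58,3),(59,1),(60,2),(61,3),(62,8),(63,7),(64,3),(65,5),(66,4),(67,3),(68,1),(69,2),(70,3),(71,8),(72,7),(73,3),(74,5),(75,4),(76,3),(77,1),(78,2),(79,3),(80,8),(81,7),(82,3),(83,5),(84,4),(85,3),(86,1),(87,2),(88,3),(89,8),(90,7)],[(0,4,1,0,[],[]),(0,5,2,0,[],[]),(0,8,3,0,[],[]),(1,1,1,14,[(1,0,0)],[(0,1,0),(1,0,0)]),(3,3,3,31,[(1,0,2)],[(0,3,0),(1,0,2)]),(3,4,4,0,[],[]),(4,8,1,36,[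(1,0,2),(1,0,5)],[(1,0,0)]),(1,3,5,0,[],[]),(2,4,6,0,[],[]),(6,5,7,0,[],[]),(7,4,8,0,[],[]),(8,5,1,33,[(1,0,1),(1,0,8),(1,0,9),(1,0,10)],[(1,0,0)]),(3,7,9,0,[],[]),(8,1,10,0,[],[]),(10,8,5,50,[(0,0,0),(1,0,0),(2,0,11),(1,0,13)],[(0,7,0),(0,2,0),(0,3,0),(0,7,0),(1,0,0),(1,0,7)]),(9,3,11,0,[],[]),(11,5,12,0,[],[]),(12,4,13,0,[],[]),(13,3,14,0,[],[]),(14,1,15,0,[],[]),(15,2,16,0,[],[]),(16,3,17,0,[],[]),(17,8,18,0,[],[]),(18,7,19,0,[],[]),(19,3,20,0,[],[]),(20,5,21,0,[],[]),(21,4,22,0,[],[]),(22,3,23,0,[],[]),(23,1,24,0,[],[]),(24,2,25,0,[],[]),(25,3,26,0,[],[]),(26,8,27,0,[],[]),(27,7,28,0,[],[]),(28,3,29,0,[],[]),(29,5,30,0,[],[]),(30,4,31,0,[],[]),(31,3,32,0,[],[]),(32,1,33,0,[],[]),(33,2,34,0,[],[]),(34,3,35,0,[],[]),(35,8,36,0,[],[]),(36,7,37,0,[],[]),(37,3,38,0,[],[]),(38,5,39,0,[],[]),(39,4,4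0,0,[],[]),(40,3,41,0,[],[]),(41,1,42,0,[],[]),(42,2,43,0,[],[]),(43,3,44,0,[],[]),(44,8,45,0,[],[]),(45,7,46,0,[],[]),(46,3,47,0,[],[]),(47,5,48,0,[],[]),(48,4,49,0,[],[]),(49,3,50,0,[],[]),(50,1,51,0,[],[]),(51,2,52,0,[],[]),(52,3,53,0,[],[]),(53,8,54,0,[],[]),(54,7,55,0,[],[]),(55,3,56,0,[],[]),(56,5,57,0,[],[]),(57,4,58,0,[],[]),(58,3,59,0,[],[]),(59,1,60,0,[],[]),(60,2,61,0,[],[]),(61,3,62,0,[],[]),(62,8,63,0,[],[]),(63,7,64,0,[],[]),(64,3,65,0,[],[]),(65,5,66,0,[],[]),(66,4,67,0,[],[]),(67,3,68,0,[],[]),(68,1,69,0,[],[]),(69,2,70,0,[],[]),(70,3,71,0,[],[]),(71,8,72,0,[],[]),(72,7,73,0,[],[]),(73,3,74,0,[],[]),(74,5,75,0,[],[]),(75,4,76,0,[],[]),(76,3,77,0,[],[]),(77,1,78,0,[],[]),(78,2,79,0,[],[]),(79,3,80,0,[],[]),(80,8,81,0,[],[]),(81,7,82,0,[],[]),(82,3,83,0,[],[]),(83,5,84,0,[],[]),(84,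4,85,0,[],[]),(85,3,86,0,[],[]),(86,1,87,0,[],[]),(87,2,88,0,[],[]),(88,3,89,0,[],[]),(89,8,90,0,[],[]),(90,7,91,0,[],[]),(91,3,8,47,[(1,0,2),(1,0,12),(1,0,15),(1,0,16),(1,0,17),(1,0,18),(1,0,19),(1,0,20),(1,0,21),(1,0,22),(1,0,23),(1,0,24),(1,0,25),(1,0,26),(1,0,27),(1,0,28),(1,0,29),(1,0,30),(1,0,31),(1,0,32),(1,0,33),(1,0,34),(1,0,35),(1,0,36),(1,0,37),(1,0,38),(1,0,39),(1,0,40),(1,0,41),(1,0,42),(1,0,43),(1,0,44),(1,0,45),(1,0,46),(1,0,47),(1,0,48),(1,0,49),(1,0,50),(1,0,51),(1,0,52),(1,0,53),(1,0,54),(1,0,55),(1,0,56),(1,0,57),(1,0,58),(1,0,59),(1,0,60),(1,0,61),(1,0,62),(1,0,63),(1,0,64),(1,0,65),(1,0,66),(1,0,67),(1,0,68),(1,0,69),(1,0,70),(1,0,71),(1,0,72),(1,0,73),(1,0,74),(1,0,75),(1,0,76),(1,0,77),(1,0,78),(1,0,79),(1,0,80),(1,0,81),(1,0,82),(1,0,83),(1,0,84),(1,0,85),(1,0,86),(1,0,87)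,(1,0,88),(1,0,89),(1,0,90),(1,0,91),(1,0,92),(1,0,93),(1,0,94),(1,0,95)],[(0,3,0),(0,2,0),(0,1,0),(0,3,0),(1,0,0),(2,0,11)]),(10,9,8,15,[(2,0,11),(1,0,13)],[(2,0,3),(2,0,11)]),(10,9,8,1,[(1,0,97)],[]),(8,8,5,1,[(2,0,98),(1,0,14)],[]),(4,9,91,31,[(2,0,6)],[(1,0,7),(2,0,99),(2,0,96)]),(91,9,4,1,[(2,0,100)],[]),(4,3,8,1,[(2,0,101),(1,0,96)],[]),(7,9,8,27,[(1,0,5),(1,0,102),(2,0,10)],[(2,0,4),(1,0,5),(1,0,102)]),(8,9,7,1,[(2,0,103)],[]),(7,5,1,1,[(2,0,104),(1,0,11)],[]),(6,9,1,1,[(1,0,9),(1,0,105)],[]),(6,9,1,1,[(1,0,106)],[]),(1,4,2,1,[(2,0,107),(2,0,8)],[]),(0,9,2,1,[(1,0,0),(1,0,108)],[]),(2,9,0,1,[(2,0,109)],[]),(0,5,0,1,[(2,0,110),(2,0,1)],[]),(0,5,0,1,[(2,0,111)],[])])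

def patch6 : Patch := ([(0,4),(0,8),(2,4),(1,3),(1,5),(2,7),(5,1),(6,3),(8,5),(9,4),(10,3),(11,1),(12,2),(13,3),(14,8),(15,7),(16,3),(17,5),(18,4),(19,3),(20,1),(21,2),(22,3),(23,8),(24,7),(25,3),(26,5),(27,4),(28,3),(29,1),(30,2),(31,3),(32,8),(33,7),(34,3),(35,5),(36,4),(37,3),(38,1),(39,2),(40,3),(41,8),(42,7),(43,3),(44,5),(45,4),(46,3),(47,1),(48,2),(49,3),(50,8),(51,7),(52,3),(53,5),(54,4),(55,3),(56,1),(57,2),(58,3),(59,8),(60,7),(61,3),(62,5),(63,4),(64,3),(65,1),(66,2),(67,3),(68,8),(69,7),(70,3),(71,5),(72,4),(73,3),(74,1),(75,2),(76,3),(77,8),(78,7),(79,3),(80,5),(81,4),(82,3),(83,1),(84,2),(85,3),(86,8),(87,7)],[(0,4,1,0,[],[]),(0,8,2,0,[],[]),(1,0,1,6,[(1,0,0)],[(0,0,0),(1,0,0)]),(1,1,1,14,[(1,0,0)],[(0,1,0),(1,0,0)]),(1,2,1,21,[(1,0,0)],[(0,2,0),(1,0,0)]),(2,3,2,31,[(1,0,1)],[(0,3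,0),(1,0,1)]),(1,7,1,35,[(0,7,0),(1,0,0)],[(1,0,0)]),(2,4,3,0,[],[]),(3,8,1,36,[(1,0,1),(1,0,7)],[(1,0,0)]),(1,3,4,0,[],[]),(4,4,4,27,[(1,0,0),(1,0,9)],[(0,3,0),(1,0,0),(1,0,9)]),(1,5,5,0,[],[]),(2,7,6,0,[],[]),(5,1,7,0,[],[]),(7,8,4,50,[(0,0,0),(1,0,0),(1,0,11),(1,0,13)],[(0,7,0),(0,2,0),(0,3,0),(0,7,0),(1,0,0),(1,0,9)]),(6,3,8,0,[],[]),(8,5,9,0,[],[]),(9,4,10,0,[],[]),(10,3,11,0,[],[]),(11,1,12,0,[],[]),(12,2,13,0,[],[]),(13,3,14,0,[],[]),(14,8,15,0,[],[]),(15,7,16,0,[],[]),(16,3,17,0,[],[]),(17,5,18,0,[],[]),(18,4,19,0,[],[]),(19,3,20,0,[],[]),(20,1,21,0,[],[]),(21,2,22,0,[],[]),(22,3,23,0,[],[]),(23,8,24,0,[],[]),(24,7,25,0,[],[]),(25,3,26,0,[],[]),(26,5,27,0,[],[]),(27,4,28,0,[],[]),(28,3,29,0,[],[]),(29,1,30,0,[],[]),(30,2,31,0,[],[]),(31,3,32,0,[],[]),(32,8,33,0,[],[]),(33,7,34,0,[],[]),(3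4,3,35,0,[],[]),(35,5,36,0,[],[]),(36,4,37,0,[],[]),(37,3,38,0,[],[]),(38,1,39,0,[],[]),(39,2,40,0,[],[]),(40,3,41,0,[],[]),(41,8,42,0,[],[]),(42,7,43,0,[],[]),(43,3,44,0,[],[]),(44,5,45,0,[],[]),(45,4,46,0,[],[]),(46,3,47,0,[],[]),(47,1,48,0,[],[]),(48,2,49,0,[],[]),(49,3,50,0,[],[]),(50,8,51,0,[],[]),(51,7,52,0,[],[]),(52,3,53,0,[],[]),(53,5,54,0,[],[]),(54,4,55,0,[],[]),(55,3,56,0,[],[]),(56,1,57,0,[],[]),(57,2,58,0,[],[]),(58,3,59,0,[],[]),(59,8,60,0,[],[]),(60,7,61,0,[],[]),(61,3,62,0,[],[]),(62,5,63,0,[],[]),(63,4,64,0,[],[]),(64,3,65,0,[],[]),(65,1,66,0,[],[]),(66,2,67,0,[],[]),(67,3,68,0,[],[]),(68,8,69,0,[],[]),(69,7,70,0,[],[]),(70,3,71,0,[],[]),(71,5,72,0,[],[]),(72,4,73,0,[],[]),(73,3,74,0,[],[]),(74,1,75,0,[],[]),(75,2,76,0,[],[]),(76,3,77,0,[],[]),(77,8,78,0,[],[]),(78,7,79,0,[],[])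,(79,3,80,0,[],[]),(80,5,81,0,[],[]),(81,4,82,0,[],[]),(82,3,83,0,[],[]),(83,1,84,0,[],[]),(84,2,85,0,[],[]),(85,3,86,0,[],[]),(86,8,87,0,[],[]),(87,7,88,0,[],[]),(88,3,5,47,[(1,0,1),(1,0,12),(1,0,15),(1,0,16),(1,0,17),(1,0,18),(1,0,19),(1,0,20),(1,0,21),(1,0,22),(1,0,23),(1,0,24),(1,0,25),(1,0,26),(1,0,27),(1,0,28),(1,0,29),(1,0,30),(1,0,31),(1,0,32),(1,0,33),(1,0,34),(1,0,35),(1,0,36),(1,0,37),(1,0,38),(1,0,39),(1,0,40),(1,0,41),(1,0,42),(1,0,43),(1,0,44),(1,0,45),(1,0,46),(1,0,47),(1,0,48),(1,0,49),(1,0,50),(1,0,51),(1,0,52),(1,0,53),(1,0,54),(1,0,55),(1,0,56),(1,0,57),(1,0,58),(1,0,59),(1,0,60),(1,0,61),(1,0,62),(1,0,63),(1,0,64),(1,0,65),(1,0,66),(1,0,67),(1,0,68),(1,0,69),(1,0,70),(1,0,71),(1,0,72),(1,0,73),(1,0,74),(1,0,75),(1,0,76),(1,0,77),(1,0,78),(1,0,79),(1,0,80),(1,0,81),(1,0,82),(1,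0,83),(1,0,84),(1,0,85),(1,0,86),(1,0,87),(1,0,88),(1,0,89),(1,0,90),(1,0,91),(1,0,92),(1,0,93),(1,0,94),(1,0,95)],[(0,3,0),(0,2,0),(0,1,0),(0,3,0),(1,0,0),(1,0,11)]),(7,9,5,15,[(1,0,11),(1,0,13)],[(2,0,3),(1,0,11)]),(7,9,5,1,[(1,0,97)],[]),(5,8,4,1,[(2,0,98),(1,0,14)],[]),(3,9,88,31,[(2,0,8)],[(1,0,9),(2,0,99),(2,0,96)]),(88,9,3,1,[(2,0,100)],[]),(3,7,87,1,[(2,0,101),(2,0,95)],[]),(6,4,87,35,[(1,0,12)],[(1,0,7),(1,0,102)]),(86,9,87,45,[(2,0,8),(1,0,102),(2,0,94)],[(2,0,6),(2,0,8),(1,0,102)]),(87,9,86,1,[(2,0,104)],[]),(86,4,6,1,[(2,0,105),(2,0,103)],[]),(86,7,3,1,[(2,0,105),(2,0,102)],[]),(84,9,1,50,[(2,0,2),(2,0,0),(0,5,0),(0,1,0),(1,0,1),(2,0,5),(1,0,7),(2,0,107),(2,0,93),(2,0,92)],[(2,0,6)]),(84,9,1,1,[(1,0,108)],[]),(1,2,85,1,[(2,0,109),(1,0,92)],[]),(1,9,85,1,[(1,0,4),(1,0,110)],[]),(85,9,1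,1,[(2,0,111)],[]),(1,3,86,1,[(2,0,112),(1,0,93)],[]),(4,9,86,1,[(2,0,9),(1,0,113)],[]),(86,9,4,1,[(2,0,114)],[]),(4,4,6,1,[(2,0,115),(1,0,106)],[]),(4,9,6,1,[(1,0,10),(1,0,116)],[]),(4,7,3,1,[(2,0,115),(1,0,107)],[]),(6,9,4,1,[(2,0,117)],[]),(4,7,2,1,[(2,0,119),(2,0,12)],[]),(3,9,2,1,[(2,0,118),(1,0,120)],[]),(3,9,2,1,[(1,0,121)],[]),(2,8,1,1,[(2,0,122),(1,0,8)],[]),(0,9,1,1,[(1,0,1),(1,0,123)],[]),(1,9,0,1,[(2,0,124)],[]),(0,4,0,1,[(2,0,125),(2,0,0)],[]),(0,4,0,1,[(2,0,126)],[])])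

def patch7 : Patch := ([(0,6),(1,5),(2,4)],[(0,6,1,0,[],[]),(1,0,1,8,[(1,0,0)],[(0,0,0),(1,0,0)]),(1,1,1,16,[(1,0,0)],[(0,1,0),(1,0,0)]),(1,2,1,23,[(1,0,0)],[(0,2,0),(1,0,0)]),(1,3,1,29,[(1,0,0)],[(0,3,0),(1,0,0)]),(1,4,1,34,[(1,0,0)],[(0,4,0),(1,0,0)]),(1,7,1,42,[(0,7,0),(1,0,0)],[(1,0,0)]),(1,8,1,43,[(0,8,0),(1,0,0)],[(1,0,0)]),(1,5,2,0,[],[]),(2,6,2,38,[(1,0,0),(1,0,8)],[(0,5,0),(1,0,0),(1,0,8)]),(2,4,3,0,[],[]),(2,1,2,15,[(1,0,8)],[(2,0,2),(1,0,8)]),(2,3,2,28,[(1,0,8)],[(2,0,4),(1,0,8)]),(2,8,2,40,[(2,0,7),(1,0,8)],[(1,0,8)]),(3,9,1,50,[(2,0,1),(2,0,5),(1,0,8),(2,0,11),(2,0,13),(2,0,12),(1,0,10)],[(2,0,6),(2,0,3),(2,0,4),(2,0,6)]),(3,9,1,1,[(1,0,14)],[]),(1,4,2,1,[(2,0,15),(2,0,10)],[]),(1,9,2,1,[(1,0,5),(1,0,16)],[]),(2,9,1,1,[(2,0,17)],[]),(1,6,1,1,[(2,0,18),(2,0,9),(1,0,18)],[]),(0,9,1,1,[(1,0,0),(1,0,19)],[]),(1,9,0,1,[(2,0,20)],[]),(0,6,0,1,[(2,0,21),(2,0,0)],[]),(0,6,0,1,[(2,0,22)],[])])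

def words : List (List ℕ) := [
  [0,0],
  [1,0,1,0,1,0],
  [2,0,2,0],
  [3,0,3,0],
  [4,0,4,0],
  [5,0,5,0],
  [6,0,6,0],
  [7,0,7,0],
  [8,0,8,0],
  [1,1],
  [2,1,2,1,2,1],
  [3,1,3,1],
  [4,1,4,1],
  [5,1,5,1],
  [6,1,6,1],
  [7,1,7,1],
  [8,1,8,1],
  [2,2],
  [3,2,3,2,3,2],
  [4,2,4,2],
  [5,2,5,2],
  [6,2,6,2],
  [7,2,7,2],
  [8,2,8,2],
  [3,3],
  [4,3,4,3,4,3],
  [5,3,5,3],
  [6,3,6,3],
  [7,3,7,3,7,3],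
  [8,3,8,3],
  [4,4],
  [5,4,5,4,5,4],
  [6,4,6,4],
  [7,4,7,4],
  [8,4,8,4],
  [5,5],
  [6,5,6,5,6,5],
  [7,5,7,5],
  [8,5,8,5],
  [6,6],
  [7,6,7,6],
  [8,6,8,6],
  [7,7],
  [8,7,8,7,8,7],
  [8,8],
  [8,7,3,5,4,3,1,2,3,8,7,3,5,4,3,1,2,3,8,7,3,5,4,3,1,2,3,8,7,3,5,4,3,1,2,3,8,7,3,5,4,3,1,2,3,8,7,3,5,4,3,1,2,3,8,7,3,5,4,3,1,2,3,8,7,3,5,4,3,1,2,3,8,7,3,5,4,3,1,2,3,8,7,3,5,4,3,1,2,3],
  [7,5,4,3,2,1,0,7,5,4,3,2,1,0,7,5,4,3,2,1,0,7,5,4,3,2,1,0,7,5,4,3,2,1,0,7,5,4,3,2,1,0,7,5,4,3,2,1,0,7,5,4,3,2,1,0,7,5,4,3,2,1,0],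
  [7,6,5,4,3,2,1,7,6,5,4,3,2,1,7,6,5,4,3,2,1,7,6,5,4,3,2,1,7,6,5,4,3,2,1,7,6,5,4,3,2,1,7,6,5,4,3,2,1,7,6,5,4,3,2,1,7,6,5,4,3,2,1],
  [0,4,5,1,8,3,4,7,3,2,7]]

def data : Data := ⟨1, 9, tT, tM, tJ, tPA, words, 49, [patch0, patch1, patch2, patch3, patch4, patch5, patch6, patch7]⟩


end

end Fi22LC
end H93
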